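import Groth.Agent.AlgSpFppf.SpaceDescent

/-!
# Quotients by flat locally finitely presented equivalence relations
-/

set_option autoImplicit false
set_option backward.isDefEq.respectTransparency false
set_option backward.isDefEq.respectTransparency.types false
universe u

open CategoryTheory CategoryTheory.Limits AlgebraicGeometry Opposite AlgSp

noncomputable section

namespace Groth.AlgSpFppf

open Groth.AlgSpBasic

variable {S : Scheme.{u}} {R U F : Sp S} {s t : R ⟶ U} {π : U ⟶ F}

/-- The source map of an equivalence relation is surjective on points. -/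
theorem isSurjectiveMor_source (h : IsEqvRelSp s t) : IsSurjectiveMor s := fun y => by
  obtain ⟨T, g, x, rfl⟩ := exists_ofPt y
  obtain ⟨r, -, hr⟩ := (h.equivalence T).refl g
  exact ⟨Points.ofPt r x, by rw [ofPt_eq_map, ← Points.map_comp, hr, ← ofPt_eq_map]⟩

/-- An effective quotient by a flat, locally finitely presented equivalence relation is an fppf
cover representable by algebraic spaces. -/
theorem repBySpWith_quotient (hR : IsAlgSpace R) (hU : IsAlgSpace U) (hj : IsEqvRelSp s t)
    (hfl : LocP @Flat s) (hfp : LocP @LocallyOfFinitePresentation s)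
    [Sheaf.IsLocallySurjective π] (sq : IsPullback t s π π) :
    RepBySpWith (FppfMor S) π.hom :=
  repBySpWith_of_local π fun T a P fst snd sqP => by
    have hl : IsPullback (sq.lift fst (snd ≫ a) (by rw [Category.assoc]; exact sqP.w)) snd s a :=
      IsPullback.of_right (by rw [sq.lift_fst]; exact sqP) (sq.lift_snd _ _ _) sq
    have hT : IsAlgSpace ((yon S).obj T) := IsAlgSpace.yon_obj T
    refine ⟨isAlgSpace_of_isPullback hl hU.diag hR hT, ⟨fun z => ?_,
      locP_of_isPullback hR hU hT hl hfl⟩, locP_of_isPullback hR hU hT hl hfp⟩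
    obtain ⟨r, hr⟩ := isSurjectiveMor_source hj (Points.map a z)
    obtain ⟨p, -, hp⟩ := exists_point_of_isPullback hl r z hr
    exact ⟨p, hp⟩

/-- A cover representable by algebraic spaces of an algebraic space. -/
theorem locP_of_repBySpWith (Q : MorphismProperty Scheme.{u}) [EtaleLocal Q]
    {M : MorphismProperty (Sp S)} (hM : M ≤ LocP Q) (hU : IsAlgSpace U) (hF : IsAlgSpace F)
    (hp : RepBySpWith M π.hom) : LocP Q π := by
  obtain ⟨V, b, hb, hbs⟩ := hF.atlas
  exact locP_of_target_cover hU hF hb hbs (IsPullback.of_hasPullback π b)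
    (hM _ ((repBySpWith_hom_iff _ π).1 hp b _ _ (IsPullback.of_hasPullback π b)).2)

/-- A surjective map representable by algebraic spaces is surjective. -/
theorem isSurjectiveMor_of_repBySpWith {M : MorphismProperty (Sp S)} (hM : M ≤ IsSurjectiveMor)
    (hp : RepBySpWith M π.hom) : IsSurjectiveMor π := fun y => by
  obtain ⟨T, g, x, rfl⟩ := exists_ofPt y
  obtain ⟨z, hz⟩ := hM _ ((repBySpWith_hom_iff _ π).1 hp g _ _ (IsPullback.of_hasPullback π g)).2
    (Points.ofScheme T x)
  refine ⟨Points.map (pullback.fst π g) z, ?_⟩
  rw [← Points.map_comp, pullback.condition, Points.map_comp, hz, ofPt_eq_map]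

end Groth.AlgSpFppf
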