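import Groth.Agent.AlgSpBasic.SepLQF
import Groth.Agent.AlgSpBasic.SepLQFScheme
import Groth.Agent.AlgSpBasic.AffineDescent
import Groth.Agent.EtaleBase.FpqcDescent
import Groth.Agent.S10096

/-!
# Separated locally quasi-finite maps descend along fppf covers
-/

set_option autoImplicit false
set_option backward.isDefEq.respectTransparency false
set_option backward.isDefEq.respectTransparency.types false
universe u

open CategoryTheory CategoryTheory.Limits AlgebraicGeometry Opposite AlgSp
open Groth.AlgSpBasic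

namespace Groth.AlgSpFppf

noncomputable section

variable {S : Scheme.{u}} {E F G H : Sp S}

/-- A map which is separated and locally quasi-finite after pullback along an fppf cover is
representable by schemes. -/
theorem repWith_of_fppf_sepLQF (Q : MorphismProperty Scheme.{u}) [Q.IsStableUnderBaseChange]
    [IsZariskiLocalAtTarget Q] [Q.DescendsAlong (@Surjective ⊓ @Flat ⊓ @QuasiCompact)]
    (hQ : ∀ ⦃A B : Scheme.{u}⦄ (f : A ⟶ B), IsSeparated f → LocallyQuasiFinite f → LocallyOfFiniteType f → Q f)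
    {a : E ⟶ F} {f : E ⟶ H} {g : F ⟶ G} {b : H ⟶ G} (sq : IsPullback a f g b)
    (hg : RepBySpWith (IsSurjectiveMor ⊓ LocP @Flat ⊓ LocP @LocallyOfFinitePresentation) g.hom)
    (ha : RepBySpWith (IsSeparatedMor ⊓ LocP (@LocallyQuasiFinite ⊓ @LocallyOfFiniteType)) a.hom) :
    RepWith Q b := by
  have : Epi g := Groth.Agent.S10096.result S _ _ g hg
  have : Sheaf.IsLocallySurjective g := (Sheaf.isLocallySurjective_iff_epi' (A := Type (u + 1)) g).2 ‹_›
  refine repWith_of_exists fun T ξ => ?_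
  obtain ⟨hFT, -⟩ := (repBySpWith_hom_iff _ g).1 hg ξ _ _ (IsPullback.of_hasPullback g ξ)
  have := isLocallySurjective_of_isPullback (IsPullback.of_hasPullback g ξ)
  obtain ⟨V, q, hq, hqs⟩ := hFT.atlas
  have := isLocallySurjective_of_etale q hq hqs
  obtain ⟨c, hc⟩ := (yon S).map_surjective (q ≫ pullback.snd g ξ)
  have : Sheaf.IsLocallySurjective ((yon S).map c) := by rw [hc]; infer_instance
  -- the pullback of `a` to `V`
  obtain ⟨hP, hsep, hqf⟩ := (repBySpWith_hom_iff _ a).1 ha (q ≫ pullback.fst g ξ) _ _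
    (IsPullback.of_hasPullback a (q ≫ pullback.fst g ξ))
  obtain ⟨R₀, ⟨e⟩⟩ := exists_iso_of_separated_lqf hP hqf hsep
  obtain ⟨r, hr⟩ := (yon S).map_surjective (e.hom ≫ pullback.snd a (q ≫ pullback.fst g ξ))
  have hrep : Representable ((yon S).map r) := representable_of_diag (IsAlgSpace.yon_obj V).diag _
  have hsep' : IsSeparated r.left := by
    have : IsSeparatedMor ((yon S).map r) := repWith_of_isPullback
      (isPullback_diagonal_baseChange (f := pullback.snd a (q ≫ pullback.fst g ξ)) (g := 𝟙 _)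
        (fst := e.hom) (snd := (yon S).map r) (IsPullback.of_horiz_isIso ⟨by simp [hr]⟩)) hsep
    exact (isSeparatedMor_yon_map_iff r).1 this
  have hqf' : (@LocallyQuasiFinite ⊓ @LocallyOfFiniteType : MorphismProperty Scheme.{u}) r.left := by
    refine (repWith_yon_map_iff _ r).1 (repWith_of_locP (IsAlgSpace.yon_obj V) hrep ?_)
    rw [hr]
    exact locP_comp (IsAlgSpace.yon_obj R₀) hP (IsAlgSpace.yon_obj V) (locP_of_repWith (repWith_isIso e.hom)) hqf
  obtain ⟨hlqf, hlft⟩ := hqf'
  have sq₁ : IsPullback (pullback.fst a (q ≫ pullback.fst g ξ) ≫ f)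
      (pullback.snd a (q ≫ pullback.fst g ξ)) b ((yon S).map c ≫ ξ) := by
    rw [hc, Category.assoc, ← pullback.condition, ← Category.assoc]
    exact (IsPullback.of_hasPullback a (q ≫ pullback.fst g ξ)).paste_horiz sq.flip
  have sq₂ : IsPullback (e.hom ≫ pullback.fst a (q ≫ pullback.fst g ξ) ≫ f) ((yon S).map r) b
      ((yon S).map c ≫ ξ) :=
    sq₁.of_iso e.symm (Iso.refl _) (Iso.refl _) (Iso.refl _) (by simp) (by simp [hr]) (by simp) (by simp)
  obtain ⟨l, hl₁, hl₂⟩ : ∃ l : (yon S).obj R₀ ⟶ pullback b ξ,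
      l ≫ pullback.fst b ξ = e.hom ≫ pullback.fst a (q ≫ pullback.fst g ξ) ≫ f ∧
        l ≫ pullback.snd b ξ = (yon S).map r ≫ (yon S).map c :=
    ⟨pullback.lift _ _ (sq₂.w.trans (Category.assoc _ _ _).symm), pullback.lift_fst _ _ _, pullback.lift_snd _ _ _⟩
  have sq₃ : IsPullback l ((yon S).map r) (pullback.snd b ξ) ((yon S).map c) :=
    IsPullback.of_right (by rw [hl₁]; exact sq₂) hl₂ (IsPullback.of_hasPullback b ξ)
  have hrw := repWith_of_sepLQF (Q := Q) ((yon S).map c) sq₃ (hQ _ hsep' hlqf hlft)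
  obtain ⟨W, w, fst', sqW⟩ := hrw.rep (𝟙 _)
  exact ⟨W, fst' ≫ pullback.fst b ξ, w, by
    have h := sqW.paste_horiz (IsPullback.of_hasPullback b ξ)
    rwa [Category.id_comp] at h, hrw.property (𝟙 _) fst' w sqW⟩

end

end Groth.AlgSpFppf
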