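import Groth.Agent.AlgSpBasic.Quotient
import Groth.Agent.AlgSp2.UnramMono
import Groth.Agent.EtaleBase.FpqcDescent
import Groth.Agent.S10096

/-!
# A sheaf with an fppf cover by an algebraic space has representable diagonal
-/

set_option autoImplicit false
set_option backward.isDefEq.respectTransparency false
set_option backward.isDefEq.respectTransparency.types false
universe u

open CategoryTheory CategoryTheory.Limits AlgebraicGeometry Opposite AlgSp
open Groth.AlgSpBasic

namespace Groth.AlgSpFppf

noncomputable section

variable {S : Scheme.{u}} {F : Sp S}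

/-- The condition on a cover. -/
abbrev FppfMor (S : Scheme.{u}) : MorphismProperty (Sp S) :=
  IsSurjectiveMor ⊓ LocP @Flat ⊓ LocP @LocallyOfFinitePresentation

/-- A locally surjective map from a scheme whose kernel pair is a scheme of finite type over one
factor makes the diagonal representable. -/
theorem representable_diag_of_kernelPair {R U : Over S} {s t : R ⟶ U} {π : (yon S).obj U ⟶ F}
    [Sheaf.IsLocallySurjective π]
    (sq : IsPullback ((yon S).map t) ((yon S).map s) π π) [LocallyOfFiniteType t.left] :
    Representable (Limits.diag F) := by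
  let b := prodComparison (yon S) U U ≫ prod.map π π
  have := isLocallySurjective_prod_map (π := π)
  have hinj := (isEqvRel_of_isPullback sq).injective
  have : Mono (prod.lift t s) := ⟨fun {Z} a a' e => hinj Z a a'
    (by
      have := e =≫ prod.fst
      rwa [Category.assoc, Category.assoc, prod.lift_fst] at this)
    (by
      have := e =≫ prod.snd
      rwa [Category.assoc, Category.assoc, prod.lift_snd] at this)⟩
  have : Mono (prod.lift t s).left :=
    inferInstanceAs (Mono ((Over.forget S).map (prod.lift t s)))
  have : IsSeparated (prod.lift t s).left := inferInstance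
  have : FormallyUnramified (prod.lift t s).left := inferInstance
  have : LocallyOfFiniteType (prod.lift t s).left := by
    have : LocallyOfFiniteType ((prod.lift t s).left ≫ (prod.fst : U ⨯ U ⟶ U).left) := by
      rw [lift_left_fst t s]; infer_instance
    exact locallyOfFiniteType_of_comp _ (prod.fst : U ⨯ U ⟶ U).left
  have : LocallyQuasiFinite (prod.lift t s).left :=
    locallyQuasiFinite_of_formallyUnramified _
  exact (repWith_of_sepLQF (Q := @LocallyOfFiniteType) b (isPullback_diag_yon sq) inferInstance).rep

/-- The composite of a cover with an etale chart of its source. -/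
theorem exists_kernelPair_of_fppf_cover {X : Space S} {p : X.obj ⟶ F} (hp : RepBySpWith (FppfMor S) p.hom)
    {U : Over S} {q : (yon S).obj U ⟶ X.obj} (hq : RepWith @Etale q) :
    ∃ (R : Over S) (t s : R ⟶ U),
      IsPullback ((yon S).map t) ((yon S).map s) (q ≫ p) (q ≫ p) ∧ LocallyOfFiniteType s.left := by
  let π := q ≫ p
  obtain ⟨hY, ⟨-, -⟩, hfp⟩ := (repBySpWith_hom_iff _ p).1 hp π _ _ (IsPullback.of_hasPullback p π)
  have hU : IsAlgSpace ((yon S).obj U) := IsAlgSpace.yon_obj U
  have sqA := IsPullback.of_hasPullback q (pullback.fst p π)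
  have hP : IsAlgSpace (pullback q (pullback.fst p π)) := isAlgSpace_of_isPullback sqA X.property.diag hU hY
  have sq : IsPullback (pullback.fst q (pullback.fst p π)) (pullback.snd q (pullback.fst p π) ≫ pullback.snd p π) π π :=
    sqA.flip.paste_horiz (IsPullback.of_hasPullback p π).flip |>.flip
  have hl : LocP @LocallyOfFiniteType (pullback.snd q (pullback.fst p π) ≫ pullback.snd p π) :=
    locP_comp hP hY hU
      (locP_of_isPullback hU X.property hY sqA (locP_mono (fun _ _ g (_ : Etale g) => (inferInstance : LocallyOfFiniteType g))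
        (locP_of_repWith hq)))
      (locP_mono (fun _ _ g (_ : LocallyOfFinitePresentation g) => (inferInstance : LocallyOfFiniteType g)) hfp)
  obtain ⟨j, hj₁, hj₂⟩ : ∃ j : pullback q (pullback.fst p π) ⟶ (yon S).obj (U ⨯ U),
      j ≫ (yon S).map prod.fst = pullback.fst q (pullback.fst p π) ∧
      j ≫ (yon S).map prod.snd = pullback.snd q (pullback.fst p π) ≫ pullback.snd p π :=
    ⟨prod.lift (pullback.fst q (pullback.fst p π)) (pullback.snd q (pullback.fst p π) ≫ pullback.snd p π) ≫
        inv (prodComparison (yon S) U U),
      by rw [Category.assoc, inv_prodComparison_map_fst, prod.lift_fst],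
      by rw [Category.assoc, inv_prodComparison_map_snd, prod.lift_snd]⟩
  have : Mono j := ⟨fun a a' e => sq.hom_ext
    (by rw [← hj₁, ← Category.assoc, ← Category.assoc, e])
    (by rw [← hj₂, ← Category.assoc, ← Category.assoc, e])⟩
  have hlj : LocP @LocallyOfFiniteType j :=
    locP_of_comp_of_cancel (fun A B C f g hfg => @locallyOfFiniteType_of_comp _ _ _ f g hfg) hP
      (IsAlgSpace.yon_obj _) hU (g := (yon S).map prod.snd) (by rw [hj₂]; exact hl)
  obtain ⟨hr, -, -⟩ := Groth.AlgSp2.representable_of_mono_lft hP (IsAlgSpace.yon_obj _) hlj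
  obtain ⟨R, i, snd, sqR⟩ := hr (𝟙 _)
  have hR := sqR
  have : IsIso snd := sqR.isIso_fst_of_isIso
  have e : snd ≫ j = (yon S).map i := sqR.w.trans (Category.comp_id _)
  refine ⟨R, i ≫ prod.fst, i ≫ prod.snd, sq.of_iso (asIso snd).symm (Iso.refl _) (Iso.refl _) (Iso.refl _) ?_ ?_
    (by simp [π]) (by simp [π]), ?_⟩
  · rw [Iso.refl_hom, Category.comp_id, Iso.symm_hom, asIso_inv, IsIso.eq_inv_comp, Functor.map_comp,
      ← e, Category.assoc, hj₁]
  · rw [Iso.refl_hom, Category.comp_id, Iso.symm_hom, asIso_inv, IsIso.eq_inv_comp, Functor.map_comp,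
      ← e, Category.assoc, hj₂]
  · have hc : LocP @LocallyOfFiniteType ((yon S).map (i ≫ prod.snd)) := by
      rw [Functor.map_comp, ← e, Category.assoc, hj₂]
      exact locP_comp (IsAlgSpace.yon_obj R) hP hU (locP_of_repWith (repWith_isIso snd)) hl
    exact (repWith_yon_map_iff _ _).1 (repWith_of_locP hU
      (representable_of_diag hU.diag ((yon S).map (i ≫ prod.snd))) hc)

/-- A sheaf with an fppf cover by an algebraic space has representable diagonal. -/
theorem representable_diag_of_fppf_cover {X : Space S} {p : X.obj ⟶ F} (hp : RepBySpWith (FppfMor S) p.hom) :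
    Representable (Limits.diag F) := by
  obtain ⟨U, q, hq, hqs⟩ := X.property.atlas
  obtain ⟨R, t, s, sq, hs⟩ := exists_kernelPair_of_fppf_cover hp hq
  have := isLocallySurjective_of_etale q hq hqs
  have : Epi p := Groth.Agent.S10096.result S _ _ p hp
  have : Sheaf.IsLocallySurjective p := (Sheaf.isLocallySurjective_iff_epi' (A := Type (u + 1)) p).2 ‹_›
  exact representable_diag_of_kernelPair (sq.flip)

end

end Groth.AlgSpFppf
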