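import Mathlib

/-!
# Maps from a field into a finitely generated domain over a field
-/

set_option autoImplicit false
set_option linter.style.haveILetI false
set_option backward.isDefEq.respectTransparency false
set_option backward.isDefEq.respectTransparency.types false
universe u

namespace Groth.AlgSpFppf

open Polynomial

variable {k : Type u} [Field k] {D : Type u} [CommRing D] [IsDomain D] [Algebra k D]
  [Algebra.FiniteType k D]

/-- In a finitely generated domain, an element whose integral polynomial values are units or zero is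
algebraic over the base field. -/
theorem isAlgebraic_of_forall_isUnit (f : D)
    (h : ∀ q : ℤ[X], aeval f q = 0 ∨ IsUnit (aeval f q)) : IsAlgebraic k f := by
  classical
  by_contra hf
  letI : Algebra k[X] D := (aeval f).toRingHom.toAlgebra
  haveI : IsScalarTower k k[X] D := IsScalarTower.of_algebraMap_eq fun c => (aeval_C f c).symm
  haveI : Algebra.FiniteType k[X] D := Algebra.FiniteType.of_restrictScalars_finiteType k k[X] D
  haveI : Algebra.FinitePresentation k[X] D :=
    Algebra.FinitePresentation.of_finiteType.mp inferInstance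
  have hinj : Function.Injective (algebraMap k[X] D) := transcendental_iff_injective.mp hf
  haveI : FaithfulSMul k[X] D := (faithfulSMul_iff_algebraMap_injective k[X] D).mpr hinj
  haveI : Module.IsTorsionFree k[X] D := inferInstance
  haveI : Module.Flat k[X] D := inferInstance
  have hopen : IsOpen (Set.range (PrimeSpectrum.comap (algebraMap k[X] D))) :=
    PrimeSpectrum.isOpenMap_comap_of_hasGoingDown_of_finitePresentation.isOpen_range
  have hgen : (⟨⊥, Ideal.isPrime_bot⟩ : PrimeSpectrum k[X]) ∈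
      Set.range (PrimeSpectrum.comap (algebraMap k[X] D)) :=
    ⟨⟨⊥, Ideal.isPrime_bot⟩, PrimeSpectrum.ext (Ideal.comap_bot_of_injective _ hinj)⟩
  obtain ⟨_, ⟨g, rfl⟩, hg, hsub⟩ :=
    PrimeSpectrum.isTopologicalBasis_basic_opens.isOpen_iff.mp hopen _ hgen
  have hg0 : g ≠ 0 := fun e => hg (show g ∈ (⊥ : Ideal k[X]) by simp [e])
  obtain ⟨n, hn, hnk⟩ : ∃ n : ℕ, g.natDegree < n ∧ (n : k) ≠ 0 := by
    by_cases h1 : ((g.natDegree + 1 : ℕ) : k) = 0
    · refine ⟨g.natDegree + 2, by omega, fun h2 => one_ne_zero (α := k) ?_⟩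
      push_cast at h1 h2
      linear_combination h2 - h1
    · exact ⟨g.natDegree + 1, by omega, h1⟩
  let K := AlgebraicClosure k
  have hnK : (n : K) ≠ 0 := by
    rw [← map_natCast (algebraMap k K)]
    exact (_root_.map_ne_zero _).mpr hnk
  have hsep : (X ^ n - 1 : K[X]).Separable := by
    simpa using separable_X_pow_sub_C (1 : K) hnK one_ne_zero
  have hcard : (X ^ n - 1 : K[X]).roots.toFinset.card = n := by
    rw [Multiset.toFinset_card_of_nodup (nodup_roots hsep),
      (IsAlgClosed.splits (X ^ n - 1 : K[X])).natDegree_eq_card_roots.symm]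
    rw [← C_1, natDegree_X_pow_sub_C]
  obtain ⟨ζ, hζ, hζg⟩ : ∃ ζ, ζ ∈ (X ^ n - 1 : K[X]).roots.toFinset ∧
      ζ ∉ (g.map (algebraMap k K)).roots.toFinset := by
    apply Finset.exists_mem_notMem_of_card_lt_card
    calc (g.map (algebraMap k K)).roots.toFinset.card ≤ Multiset.card (g.map (algebraMap k K)).roots :=
          Multiset.toFinset_card_le _
      _ ≤ g.natDegree := (card_roots' _).trans natDegree_map_le
      _ < _ := by rw [hcard]; exact hn
  rw [Multiset.mem_toFinset, mem_roots', IsRoot.def] at hζ hζg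
  let M : PrimeSpectrum k[X] := ⟨RingHom.ker (aeval (R := k) ζ), RingHom.ker_isPrime _⟩
  have hM : M ∈ PrimeSpectrum.basicOpen g := fun hmem => hζg
    ⟨Polynomial.map_ne_zero hg0, by
      rw [eval_map_algebraMap]
      exact hmem⟩
  obtain ⟨Q, hQ⟩ := hsub hM
  have hq : ((X ^ n - 1 : k[X])) ∈ M.asIdeal := by
    show aeval ζ (X ^ n - 1 : k[X]) = 0
    simpa using hζ.2
  rw [← hQ] at hq
  have hQf : f ^ n - 1 ∈ Q.asIdeal := by
    simpa [RingHom.algebraMap_toAlgebra] using hq
  rcases h (X ^ n - 1) with h0 | hu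
  · apply hf
    refine ⟨X ^ n - 1, ?_, by simpa using h0⟩
    rw [← C_1]
    exact X_pow_sub_C_ne_zero (by omega) 1
  · exact Q.isPrime.ne_top (Ideal.eq_top_of_isUnit_mem _ hQf (by simpa using hu))

theorem isAlgebraic_range_of_field {k' : Type u} [Field k'] (φ : k' →+* D) (x : k') :
    IsAlgebraic k (φ x) := by
  refine isAlgebraic_of_forall_isUnit _ fun q => ?_
  rw [show aeval (φ x) q = φ (aeval x q) from aeval_algHom_apply φ.toIntAlgHom x q]
  rcases eq_or_ne (aeval x q) 0 with h | h
  · exact Or.inl (by rw [h, map_zero])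
  · exact Or.inr ((Ne.isUnit h).map φ)

/-- If a field maps into a finitely generated domain which is not a field, two points of the domain
restrict to the same embedding of the field. -/
theorem exists_ne_algHom (hD : ¬ IsField D) {k' : Type u} [Field k'] (φ : k' →+* D) :
    ∃ g₁ g₂ : D →ₐ[k] AlgebraicClosure k, g₁ ≠ g₂ ∧ ∀ x, g₁ (φ x) = g₂ (φ x) := by
  haveI : IsJacobsonRing D := isJacobsonRing_of_finiteType (A := k)
  obtain ⟨m₁, hm₁⟩ := Ideal.exists_maximal D
  have hne₁ : m₁ ≠ ⊥ := fun h => hD (Ring.isField_iff_maximal_bot.2 (h ▸ hm₁))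
  obtain ⟨m₂, hm₂, hne⟩ : ∃ m₂ : Ideal D, m₂.IsMaximal ∧ m₂ ≠ m₁ := by
    by_contra hall
    push Not at hall
    apply hne₁
    have hj : (⊥ : Ideal D).jacobson = ⊥ :=
      IsJacobsonRing.out inferInstance (Ideal.isPrime_bot (α := D)).isRadical
    rw [eq_bot_iff, ← hj]
    refine le_sInf fun J hJ => ?_
    rw [hall J hJ.2]
  haveI := hm₁
  haveI := hm₂
  letI := Ideal.Quotient.field m₁
  letI := Ideal.Quotient.field m₂
  haveI : Algebra.FiniteType k (D ⧸ m₂) := inferInstance
  haveI : Module.Finite k (D ⧸ m₁) := finite_of_finite_type_of_isJacobsonRing k _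
  haveI : Module.Finite k (D ⧸ m₂) := finite_of_finite_type_of_isJacobsonRing k _
  let g₁ : D →ₐ[k] AlgebraicClosure k :=
    (IsAlgClosed.lift (R := k) (S := D ⧸ m₁)).comp (Ideal.Quotient.mkₐ k m₁)
  have hk₁ : RingHom.ker g₁ = m₁ := by
    ext a
    rw [RingHom.mem_ker]
    show IsAlgClosed.lift (R := k) (S := D ⧸ m₁) (M := AlgebraicClosure k) (Ideal.Quotient.mk m₁ a) = 0 ↔ _
    rw [map_eq_zero, Ideal.Quotient.eq_zero_iff_mem]
  let L := integralClosure k D
  haveI : IsDomain L := inferInstance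
  have hL : IsField L := isField_of_isIntegral_of_isField' (Field.toIsField k)
  letI := hL.toField
  letI : Algebra L (D ⧸ m₂) := ((Ideal.Quotient.mk m₂).comp L.val.toRingHom).toAlgebra
  haveI : IsScalarTower k L (D ⧸ m₂) := IsScalarTower.of_algebraMap_eq fun _ => rfl
  haveI : Algebra.IsAlgebraic L (D ⧸ m₂) := Algebra.IsAlgebraic.tower_top (K := k) L
  letI : Algebra L (AlgebraicClosure k) := (g₁.comp L.val).toRingHom.toAlgebra
  haveI : IsScalarTower k L (AlgebraicClosure k) :=
    IsScalarTower.of_algebraMap_eq fun c => ((g₁.comp L.val).commutes c).symm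
  let e₂ : D ⧸ m₂ →ₐ[L] AlgebraicClosure k := IsAlgClosed.lift
  let g₂ : D →ₐ[k] AlgebraicClosure k := (e₂.restrictScalars k).comp (Ideal.Quotient.mkₐ k m₂)
  have hk₂ : RingHom.ker g₂ = m₂ := by
    ext a
    rw [RingHom.mem_ker]
    show e₂ (Ideal.Quotient.mk m₂ a) = 0 ↔ _
    rw [map_eq_zero, Ideal.Quotient.eq_zero_iff_mem]
  refine ⟨g₁, g₂, fun e => hne (by rw [← hk₁, ← hk₂, e]), fun x => ?_⟩
  let l : L := ⟨φ x, isAlgebraic_iff_isIntegral.1 (isAlgebraic_range_of_field φ x)⟩
  exact (e₂.commutes l).symm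

end Groth.AlgSpFppf
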