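import Groth.Agent.AlgSpFppf.QuotSpace
import Mathlib.CategoryTheory.Monoidal.Cartesian.Grp
import Groth.Agent.S10117

/-!
# Free actions give equivalence relations
-/

set_option autoImplicit false
set_option backward.isDefEq.respectTransparency false
set_option backward.isDefEq.respectTransparency.types false
universe u

open CategoryTheory CategoryTheory.Limits AlgebraicGeometry MonoidalCategory MonObj
open CategoryTheory.CartesianMonoidalCategory AlgSp

noncomputable section

namespace Groth.AlgSpFppf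

variable {S : Scheme.{u}} {B : Sp S} {G X : Over B} [GrpObj G] (a : GAction G X)

theorem gact_mul {T : Over B} (g h : T ⟶ G) (x : T ⟶ X) :
    lift (g * h) x ≫ a.act = lift g (lift h x ≫ a.act) ≫ a.act := by
  have := congrArg (lift (lift g h) x ≫ ·) a.mul_act
  simpa [Hom.mul_def] using this

theorem gact_one {T : Over B} (x : T ⟶ X) : lift (1 : T ⟶ G) x ≫ a.act = x := by
  have := congrArg (lift (toUnit T) x ≫ ·) a.one_act
  simpa [Hom.one_def] using this

/-- The action relation on points over the base. -/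
theorem exists_actRel_iff {T : Over S} (p q : (yon S).obj T ⟶ X.left) :
    (∃ r : (yon S).obj T ⟶ (G ⊗ X).left, r ≫ a.act.left = p ∧ r ≫ (snd G X).left = q) ↔
      ∃ (hpq : p ≫ X.hom = q ≫ X.hom) (g : Over.mk (q ≫ X.hom) ⟶ G),
        lift g (Over.homMk q rfl : Over.mk (q ≫ X.hom) ⟶ X) ≫ a.act = Over.homMk p hpq := by
  constructor
  · rintro ⟨r, rfl, rfl⟩
    have hr : (r ≫ (snd G X).left) ≫ X.hom = r ≫ (G ⊗ X).hom := by
      rw [Category.assoc, Over.w (snd G X)]
    refine ⟨by rw [hr, Category.assoc, Over.w a.act], Over.homMk r hr.symm ≫ fst G X, ?_⟩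
    let R : Over.mk ((r ≫ (snd G X).left) ≫ X.hom) ⟶ G ⊗ X := Over.homMk r hr.symm
    have hR : lift (R ≫ fst G X) (R ≫ snd G X) = R := by simp
    refine (congrArg (· ≫ a.act) (Eq.trans ?_ hR)).trans (Over.OverMorphism.ext rfl)
    exact congrArg (lift (R ≫ fst G X)) (Over.OverMorphism.ext rfl)
  · rintro ⟨hpq, g, hg⟩
    refine ⟨(lift g (Over.homMk q rfl : Over.mk (q ≫ X.hom) ⟶ X)).left,
      congrArg CommaMorphism.left hg, ?_⟩
    exact congrArg CommaMorphism.left (lift_snd g (Over.homMk q rfl : Over.mk (q ≫ X.hom) ⟶ X))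

theorem isEqvRelSp_of_free (hB : IsAlgSpace B) (hG : IsAlgSpace G.left) (hX : IsAlgSpace X.left)
    (ha : a.IsFree) : IsEqvRelSp (snd G X).left a.act.left where
  injective T r r' h₁ h₂ := by
    have := Groth.Agent.S10117.result S B hB G X hG hX a ha
    refine (cancel_mono (lift a.act (snd G X)).left).1 (pullback.hom_ext ?_ ?_)
    · rw [Category.assoc, Category.assoc]
      have : (lift a.act (snd G X)).left ≫ pullback.fst X.hom X.hom = a.act.left :=
        congrArg CommaMorphism.left (lift_fst a.act (snd G X))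
      exact (congrArg (r ≫ ·) this).trans (h₁.trans (congrArg (r' ≫ ·) this).symm)
    · rw [Category.assoc, Category.assoc]
      have : (lift a.act (snd G X)).left ≫ pullback.snd X.hom X.hom = (snd G X).left :=
        congrArg CommaMorphism.left (lift_snd a.act (snd G X))
      exact (congrArg (r ≫ ·) this).trans (h₂.trans (congrArg (r' ≫ ·) this).symm)
  equivalence T := by
    constructor
    · exact fun p => (exists_actRel_iff a p p).2 ⟨rfl, 1, gact_one a _⟩
    · intro p q h
      obtain ⟨hpq, g, hg⟩ := (exists_actRel_iff a p q).1 h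
      let e : Over.mk (p ≫ X.hom) ⟶ Over.mk (q ≫ X.hom) := Over.homMk (𝟙 _) (by simp [hpq])
      refine (exists_actRel_iff a q p).2 ⟨hpq.symm, (e ≫ g)⁻¹, ?_⟩
      have hp : e ≫ (Over.homMk p hpq : Over.mk (q ≫ X.hom) ⟶ X) = Over.homMk p rfl :=
        Over.OverMorphism.ext (Category.id_comp p)
      have hq : e ≫ (Over.homMk q rfl : Over.mk (q ≫ X.hom) ⟶ X) = Over.homMk q hpq.symm :=
        Over.OverMorphism.ext (Category.id_comp q)
      rw [← hp, ← hg, ← Category.assoc, comp_lift, ← gact_mul, inv_mul_cancel, gact_one, hq]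
    · intro p q r h h'
      obtain ⟨hpq, g, hg⟩ := (exists_actRel_iff a p q).1 h
      obtain ⟨hqr, g', hg'⟩ := (exists_actRel_iff a q r).1 h'
      let e : Over.mk (r ≫ X.hom) ⟶ Over.mk (q ≫ X.hom) := Over.homMk (𝟙 _) (by simp [hqr])
      refine (exists_actRel_iff a p r).2 ⟨hpq.trans hqr, (e ≫ g) * g', ?_⟩
      have hq : e ≫ (Over.homMk q rfl : Over.mk (q ≫ X.hom) ⟶ X) = Over.homMk q hqr :=
        Over.OverMorphism.ext (Category.id_comp q)
      rw [gact_mul, hg', ← hq, ← comp_lift, Category.assoc, hg]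
      exact Over.OverMorphism.ext (Category.id_comp p)

end Groth.AlgSpFppf
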