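import Groth.Prelude.Def_AlgSpGpd
import Groth.Agent.AlgSpBasic.QuotientKernel
import Mathlib.CategoryTheory.Sites.EpiMono

/-!
# Quotients of equivalence relations of fppf sheaves are effective
-/

set_option autoImplicit false
set_option backward.isDefEq.respectTransparency.types false
universe u

open CategoryTheory CategoryTheory.Limits AlgebraicGeometry Opposite AlgSp

namespace Groth.AlgSpFppf

open Groth.AlgSp2 Groth.AlgSpBasic

noncomputable section

variable {S : Scheme.{u}} {R U : Sp S} {s t : R ⟶ U} {Q : Sp S} {π : U ⟶ Q}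

/-- The presheaf of classes of points. -/
def pointQuot (s t : R ⟶ U) : (Over S)ᵒᵖ ⥤ Type (u + 1) where
  obj V := Quot fun a b : (yon S).obj V.unop ⟶ U =>
    ∃ r : (yon S).obj V.unop ⟶ R, r ≫ t = a ∧ r ≫ s = b
  map g := TypeCat.ofHom (Quot.map (fun a => (yon S).map g.unop ≫ a)
    fun a b ⟨r, h₁, h₂⟩ => ⟨(yon S).map g.unop ≫ r, by rw [Category.assoc, h₁],
      by rw [Category.assoc, h₂]⟩)
  map_id V := by
    ext x
    induction x using Quot.ind with
    | mk a => simp [Quot.map]
  map_comp f g := by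
    ext x
    induction x using Quot.ind with
    | mk a => simp [Quot.map]

/-- The projection to the classes of points. -/
def pointQuotπ (s t : R ⟶ U) : U.obj ⟶ pointQuot s t where
  app V := TypeCat.ofHom fun x => Quot.mk _ (yEquiv.symm (x : U.obj.obj (op V.unop)))
  naturality V W g := by
    ext x
    exact congrArg (Quot.mk _) ((J S).uliftYonedaEquiv_symm_map g x)

/-- Points of `U` with equal images in the quotient sheaf are related. -/
theorem exists_relSp_of_isColimit (h : IsEqvRelSp s t) (w : t ≫ π = s ≫ π)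
    (hQ : IsColimit (Cofork.ofπ π w)) {T : Over S} (a b : (yon S).obj T ⟶ U) (e : a ≫ π = b ≫ π) :
    ∃ r : (yon S).obj T ⟶ R, r ≫ t = a ∧ r ≫ s = b := by
  let φ : U ⟶ (presheafToSheaf (J S) (Type (u + 1))).obj (pointQuot s t) :=
    ⟨pointQuotπ s t ≫ toSheafify (J S) _⟩
  have hφ : t ≫ φ = s ≫ φ := by
    ext V x
    refine congrArg ((toSheafify (J S) (pointQuot s t)).app V) (Quot.sound ?_)
    refine ⟨yEquiv.symm (x : R.obj.obj (op V.unop)), ?_, ?_⟩
    · exact (J S).uliftYonedaEquiv_symm_naturality_right _ t x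
    · exact (J S).uliftYonedaEquiv_symm_naturality_right _ s x
  obtain ⟨d, hd⟩ := Cofork.IsColimit.desc' hQ φ hφ
  have hd' : π ≫ d = φ := hd
  have e₂ : a ≫ φ = b ≫ φ := by rw [← hd', ← Category.assoc, e, Category.assoc]
  let qa : ToType ((pointQuot s t).obj (op T)) := Quot.mk _ a
  let qb : ToType ((pointQuot s t).obj (op T)) := Quot.mk _ b
  have e₃ : (toSheafify (J S) (pointQuot s t)).app (op T) qa =
      (toSheafify (J S) (pointQuot s t)).app (op T) qb := by
    have h' : yEquiv (a ≫ φ) = yEquiv (b ≫ φ) := congrArg yEquiv e₂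
    rw [yEquiv_comp, yEquiv_comp] at h'
    change (toSheafify (J S) (pointQuot s t)).app (op T) (Quot.mk _ (yEquiv.symm (yEquiv a))) =
      (toSheafify (J S) (pointQuot s t)).app (op T) (Quot.mk _ (yEquiv.symm (yEquiv b))) at h'
    rwa [Equiv.symm_apply_apply, Equiv.symm_apply_apply] at h'
  have hS := Presheaf.equalizerSieve_mem (J S) (toSheafify (J S) (pointQuot s t)) qa qb e₃
  let Sv : Sieve T := Presheaf.equalizerSieve (F := pointQuot s t) qa qb
  have hr : ∀ ⦃V : Over S⦄ (g : V ⟶ T), Sv g → ∃ r : (yon S).obj V ⟶ R,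
      r ≫ t = (yon S).map g ≫ a ∧ r ≫ s = (yon S).map g ≫ b := by
    intro V g hg
    exact ((h.equivalence V).eqvGen_iff).1 (Quot.eqvGen_exact hg)
  choose r hr₁ hr₂ using hr
  have hR : Presieve.IsSheaf (J S) R.obj := (isSheaf_iff_isSheaf_of_type _ _).1 R.property
  have hU : Presieve.IsSheaf (J S) U.obj := (isSheaf_iff_isSheaf_of_type _ _).1 U.property
  have nat : ∀ {F : Sp S} {Y Z : Over S} (g : Z ⟶ Y) (x : (yon S).obj Y ⟶ F),
      F.obj.map g.op (yEquiv x) = yEquiv ((yon S).map g ≫ x) :=
    fun g x => (J S).uliftYonedaEquiv_naturality x g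
  let z : Presieve.FamilyOfElements R.obj Sv.arrows := fun V g hg => yEquiv (r g hg)
  have hz : z.Compatible := by
    intro Y₁ Y₂ Z g₁ g₂ f₁ f₂ h₁ h₂ e
    show R.obj.map g₁.op (yEquiv (r f₁ h₁)) = R.obj.map g₂.op (yEquiv (r f₂ h₂))
    rw [nat, nat]
    refine congrArg _ (h.injective Z _ _ ?_ ?_)
    · rw [Category.assoc, Category.assoc, hr₁, hr₁, ← Category.assoc, ← Category.assoc,
        ← Functor.map_comp, ← Functor.map_comp, e]
    · rw [Category.assoc, Category.assoc, hr₂, hr₂, ← Category.assoc, ← Category.assoc,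
        ← Functor.map_comp, ← Functor.map_comp, e]
  obtain ⟨ρ₀, hρ, -⟩ := hR Sv hS z hz
  obtain ⟨ρ, rfl⟩ := (yEquiv (U := T) (F := R)).surjective ρ₀
  have hρ' : ∀ V (g : V ⟶ T) (hg : Sv g), (yon S).map g ≫ ρ = r g hg := fun V g hg =>
    yEquiv.injective ((nat g ρ).symm.trans (hρ g hg))
  refine ⟨ρ, ?_, ?_⟩
  · exact yEquiv.injective ((hU.isSeparated Sv hS).ext fun {V} g hg => by
      rw [nat, nat, ← Category.assoc, hρ' _ _ hg, hr₁])
  · exact yEquiv.injective ((hU.isSeparated Sv hS).ext fun {V} g hg => by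
      rw [nat, nat, ← Category.assoc, hρ' _ _ hg, hr₂])

/-- Quotient sheaves of equivalence relations of sheaves are effective. -/
theorem isPullback_of_isColimitSp (h : IsEqvRelSp s t) (w : t ≫ π = s ≫ π)
    (hQ : IsColimit (Cofork.ofπ π w)) : IsPullback t s π π := by
  let l : R ⟶ pullback π π := pullback.lift t s w
  have : IsIso l := by
    refine isIso_of_bijective_comp l fun T => ⟨fun a b hab => ?_, fun g => ?_⟩
    · have h₁ := congrArg (fun k => k ≫ pullback.fst π π) hab
      have h₂ := congrArg (fun k => k ≫ pullback.snd π π) hab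
      simp only [l, Category.assoc, pullback.lift_fst, pullback.lift_snd] at h₁ h₂
      exact h.injective T a b h₁ h₂
    · obtain ⟨r, hr₁, hr₂⟩ := exists_relSp_of_isColimit h w hQ (g ≫ pullback.fst π π)
        (g ≫ pullback.snd π π) (by rw [Category.assoc, Category.assoc, pullback.condition])
      refine ⟨r, ?_⟩
      apply pullback.hom_ext
      · rw [Category.assoc, pullback.lift_fst, hr₁]
      · rw [Category.assoc, pullback.lift_snd, hr₂]
  exact IsPullback.of_iso_pullback ⟨w⟩ (asIso l) (pullback.lift_fst _ _ _) (pullback.lift_snd _ _ _)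

theorem isPullback_quotSp (h : IsEqvRelSp s t) :
    IsPullback t s (quotSpπ s t) (quotSpπ s t) := by
  refine isPullback_of_isColimitSp h (quotSp_condition s t).symm ?_
  exact Cofork.IsColimit.mk' _ fun c =>
    ⟨quotSpDesc c.π c.condition.symm, quotSpπ_desc s t c.π c.condition.symm, fun {m} hm =>
      coequalizer.hom_ext (f := s) (g := t) (hm.trans (quotSpπ_desc s t c.π c.condition.symm).symm)⟩

theorem isLocallySurjective_quotSpπ (s t : R ⟶ U) :
    Sheaf.IsLocallySurjective (quotSpπ s t) :=
  (Sheaf.isLocallySurjective_iff_epi' (A := Type (u + 1)) _).2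
    (inferInstanceAs (Epi (coequalizer.π s t)))

/-- An equivalence relation of schemes gives one of the associated sheaves. -/
theorem isEqvRelSp_yon {R U : Over S} {s t : R ⟶ U} (h : IsEqvRel s t) :
    IsEqvRelSp ((yon S).map s) ((yon S).map t) where
  injective T r r' h₁ h₂ := by
    obtain ⟨r, rfl⟩ := (yon S).map_surjective r
    obtain ⟨r', rfl⟩ := (yon S).map_surjective r'
    simp only [← Functor.map_comp] at h₁ h₂
    rw [h.injective T r r' ((yon S).map_injective h₁) ((yon S).map_injective h₂)]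
  equivalence T := by
    have key : ∀ a b : T ⟶ U,
        (∃ r : (yon S).obj T ⟶ (yon S).obj R,
          r ≫ (yon S).map t = (yon S).map a ∧ r ≫ (yon S).map s = (yon S).map b) ↔
          ∃ r : T ⟶ R, r ≫ t = a ∧ r ≫ s = b := by
      refine fun a b => ⟨fun ⟨r, h₁, h₂⟩ => ?_, fun ⟨r, h₁, h₂⟩ =>
        ⟨(yon S).map r, by rw [← Functor.map_comp, h₁], by rw [← Functor.map_comp, h₂]⟩⟩
      obtain ⟨r, rfl⟩ := (yon S).map_surjective r
      simp only [← Functor.map_comp] at h₁ h₂
      exact ⟨r, (yon S).map_injective h₁, (yon S).map_injective h₂⟩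
    constructor
    · intro a
      obtain ⟨a, rfl⟩ := (yon S).map_surjective a
      exact (key a a).2 ((h.equivalence T).refl a)
    · intro a b hab
      obtain ⟨a, rfl⟩ := (yon S).map_surjective a
      obtain ⟨b, rfl⟩ := (yon S).map_surjective b
      exact (key b a).2 ((h.equivalence T).symm ((key a b).1 hab))
    · intro a b c hab hbc
      obtain ⟨a, rfl⟩ := (yon S).map_surjective a
      obtain ⟨b, rfl⟩ := (yon S).map_surjective b
      obtain ⟨c, rfl⟩ := (yon S).map_surjective c
      exact (key a c).2 ((h.equivalence T).trans ((key a b).1 hab) ((key b c).1 hbc))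

end

end Groth.AlgSpFppf
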