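import Groth.Agent.AlgSpFppf.SliceLocus
import Groth.Agent.HenselPoint.Points
import Groth.Agent.AlgSpFppf.DiagFppf

/-!
# A flat quasi-finite cover of a sheaf with a flat cover
-/

set_option autoImplicit false
set_option linter.style.haveILetI false
set_option backward.isDefEq.respectTransparency false
set_option backward.isDefEq.respectTransparency.types false
universe u

open CategoryTheory CategoryTheory.Limits AlgebraicGeometry AlgSp Topology

namespace Groth.AlgSpFppf

/-- Every quasi-compact subset is contained in an affine open. -/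
def CompactInAffine (X : Scheme.{u}) : Prop :=
  ∀ K : Set X, IsCompact K → ∃ V : X.Opens, IsAffineOpen V ∧ K ⊆ (V : Set X)

theorem compactInAffine_sigma {ι : Type u} (V : ι → Scheme.{u}) [∀ i, IsAffine (V i)] :
    CompactInAffine (∐ V) := by
  intro K hK
  obtain ⟨J, hJ⟩ := hK.elim_finite_subcover (fun i => ((Sigma.ι V i).opensRange : Set ↥(∐ V)))
    (fun i => (Sigma.ι V i).opensRange.isOpen) (fun x _ => by
      obtain ⟨i, y, hy⟩ := (sigmaOpenCover V).exists_eq x
      exact Set.mem_iUnion.2 ⟨i, y, hy⟩)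
  refine ⟨⨆ i ∈ (J : Set ι), (Sigma.ι V i).opensRange,
    IsAffineOpen.biSup_of_disjoint J.finite_toSet (fun i _ => isAffineOpen_opensRange _)
      (fun i _ j _ hij => disjoint_opensRange_sigmaι V i j hij), fun x hx => ?_⟩
  obtain ⟨i, hi, hxi⟩ := Set.mem_iUnion₂.1 (hJ hx)
  exact TopologicalSpace.Opens.mem_iSup.2 ⟨i, TopologicalSpace.Opens.mem_iSup.2 ⟨hi, hxi⟩⟩

variable {S : Scheme.{u}} {F : Sp S} {R U : Over S} {s t : R ⟶ U} {π : (yon S).obj U ⟶ F}

theorem fieldInjective_of_isPullback (sq : IsPullback ((yon S).map t) ((yon S).map s) π π) :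
    FieldInjective s.left t.left := by
  intro K _ a b hs ht
  have hab : a ≫ R.hom = b ≫ R.hom := by
    rw [← Over.w s, ← Category.assoc, hs, Category.assoc]
  let T : Over S := Over.mk (a ≫ R.hom)
  let a' : T ⟶ R := Over.homMk a rfl
  let b' : T ⟶ R := Over.homMk b hab.symm
  have : a' = b' := (yon S).map_injective (sq.hom_ext
    (by rw [← Functor.map_comp, ← Functor.map_comp]; exact congrArg _ (Over.OverMorphism.ext ht))
    (by rw [← Functor.map_comp, ← Functor.map_comp]; exact congrArg _ (Over.OverMorphism.ext hs)))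
  exact congrArg CommaMorphism.left this

theorem surjective_left_of_kernelPair (sq : IsPullback ((yon S).map t) ((yon S).map s) π π) :
    Surjective s.left := by
  obtain ⟨r, -, hr⟩ := ((Groth.AlgSpBasic.isEqvRel_of_isPullback sq).equivalence U).refl (𝟙 U)
  refine ⟨fun x => ⟨r.left x, ?_⟩⟩
  rw [← Scheme.Hom.comp_apply, ← Over.comp_left, hr]
  rfl

/-- A sheaf with a flat cover by a scheme has a flat quasi-finite cover by a disjoint union of affines
which factors through the given cover. -/
theorem exists_lqf_cover_over (sq : IsPullback ((yon S).map t) ((yon S).map s) π π)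
    (hd : Representable (Limits.diag F)) [Sheaf.IsLocallySurjective π]
    [Flat t.left] [Flat s.left] [LocallyOfFinitePresentation t.left]
    [LocallyOfFinitePresentation s.left] :
    ∃ (U' : Over S) (g : U' ⟶ U), U'.left.IsSeparated ∧ CompactInAffine U'.left ∧
      RepWith @Flat ((yon S).map g ≫ π) ∧ RepWith @LocallyOfFinitePresentation ((yon S).map g ≫ π) ∧
      RepWith @LocallyQuasiFinite ((yon S).map g ≫ π) ∧ RepWith @Surjective ((yon S).map g ≫ π) := by
  classical
  have hmono := fieldInjective_of_isPullback sq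
  haveI := surjective_left_of_kernelPair sq
  -- all slices at closed points of affine opens
  let ι := Σ V₀ : U.left.affineOpens, {u : V₀.1 // IsClosed ({u} : Set V₀.1)}
  have hsl := fun i : ι => exists_slice_over (s := s.left) (t := t.left) hmono i.2.1 i.2.2
  choose V hV l z hz hzf hzq using hsl
  let Zi : ι → Scheme.{u} := fun i => Spec (CommRingCat.of (Γ(U.left, V i) ⧸ Ideal.ofList (l i)))
  let gi : ∀ i, Zi i ⟶ U.left := fun i =>
    Spec.map (CommRingCat.ofHom (Ideal.Quotient.mk (Ideal.ofList (l i)))) ≫ (hV i).fromSpec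
  haveI hgi : ∀ i, LocallyOfFinitePresentation (gi i) := fun i => by
    haveI : LocallyOfFinitePresentation (Spec.map (CommRingCat.ofHom (Ideal.Quotient.mk (Ideal.ofList (l i))))) := by
      rw [HasRingHomProperty.Spec_iff (P := @LocallyOfFinitePresentation)]
      refine RingHom.FinitePresentation.of_surjective _ Ideal.Quotient.mk_surjective ?_
      rw [CommRingCat.hom_ofHom, Ideal.mk_ker]
      exact ⟨(l i).toFinset, by simp [Ideal.ofList]⟩
    infer_instance
  let Z : Over S := Over.mk (Sigma.desc gi ≫ U.hom)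
  let g : Z ⟶ U := Over.homMk (Sigma.desc gi) rfl
  haveI : LocallyOfFinitePresentation g.left := by
    show LocallyOfFinitePresentation (Sigma.desc gi)
    rw [IsZariskiLocalAtSource.iff_of_openCover (P := @LocallyOfFinitePresentation) (sigmaOpenCover Zi)]
    intro i
    rw [show (sigmaOpenCover Zi).f i ≫ Sigma.desc gi = gi i from Sigma.ι_desc _ _]
    infer_instance
  obtain ⟨Z', a, b, hab⟩ := Groth.AlgSpBasic.exists_pullback_of_diag (IsAlgSpace.yon_obj U).diag
    ((yon S).map g) ((yon S).map t)
  have habS := (Groth.AlgSpBasic.isPullback_of_yon hab).map (Over.forget S)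
  change IsPullback a.left b.left g.left t.left at habS
  haveI : LocallyOfFinitePresentation b.left :=
    MorphismProperty.of_isPullback habS (inferInstance : LocallyOfFinitePresentation g.left)
  haveI : Flat a.left := MorphismProperty.of_isPullback habS.flip (inferInstance : Flat t.left)
  haveI : LocallyOfFinitePresentation a.left :=
    MorphismProperty.of_isPullback habS.flip (inferInstance : LocallyOfFinitePresentation t.left)
  let h : Z' ⟶ U := b ≫ s
  haveI : LocallyOfFinitePresentation h.left := inferInstanceAs (LocallyOfFinitePresentation (b.left ≫ s.left))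
  have sqg : IsPullback ((yon S).map a) ((yon S).map h) ((yon S).map g ≫ π) π := by
    rw [Functor.map_comp]
    exact (hab.flip.paste_horiz sq.flip).flip
  let O : Z.left.Opens := ⟨a.left '' goodLocus h, a.left.isOpenMap _ (isOpen_goodLocus h)⟩
  let 𝒱 := O.toScheme.affineCover
  let ej : ∀ j, 𝒱.X j ⟶ Z.left := fun j => 𝒱.f j ≫ O.ι
  let W : Over S := Over.mk (Sigma.desc ej ≫ Z.hom)
  let e : W ⟶ Z := Over.homMk (Sigma.desc ej) rfl
  haveI : Etale e.left := by
    show Etale (Sigma.desc ej)
    rw [IsZariskiLocalAtSource.iff_of_openCover (P := @Etale) (sigmaOpenCover 𝒱.X)]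
    intro j
    rw [show (sigmaOpenCover 𝒱.X).f j ≫ Sigma.desc ej = ej j from Sigma.ι_desc _ _]
    infer_instance
  have he : ∀ w, e.left w ∈ a.left '' goodLocus h := by
    intro w
    obtain ⟨j, y, rfl⟩ := (sigmaOpenCover 𝒱.X).exists_eq w
    show (Sigma.desc ej) ((sigmaOpenCover 𝒱.X).f j y) ∈ (O : Set Z.left)
    rw [← Scheme.Hom.comp_apply, show (sigmaOpenCover 𝒱.X).f j ≫ Sigma.desc ej = ej j from Sigma.ι_desc _ _]
    exact (𝒱.f j y).2
  obtain ⟨W', k, a', hk⟩ := Groth.AlgSpBasic.exists_pullback_of_diag (IsAlgSpace.yon_obj Z).diag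
    ((yon S).map a) ((yon S).map e)
  have hk' := Groth.AlgSpBasic.isPullback_of_yon hk
  obtain ⟨hsqW, hF, hP, hQ⟩ := goodLocus_image_of_etale sq sqg hk' he
  have hsur : Surjective (k ≫ h).left := by
    have hkS := hk'.map (Over.forget S)
    change IsPullback k.left a'.left a.left e.left at hkS
    haveI : Etale k.left := MorphismProperty.of_isPullback hkS.flip inferInstance
    have hopen : IsOpen (Set.range (k ≫ h).left) := (k ≫ h).left.isOpenMap.isOpen_range
    refine ⟨fun y => ?_⟩
    by_contra hy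
    obtain ⟨V₀, hV₀, hyV, -⟩ := exists_isAffineOpen_mem_and_subset (x := y)
      (TopologicalSpace.Opens.mem_top y)
    haveI : CompactSpace V₀ := isCompact_iff_compactSpace.1 hV₀.isCompact
    have hcl : IsClosed (Subtype.val ⁻¹' (Set.range (k ≫ h).left)ᶜ : Set V₀) :=
      hopen.isClosed_compl.preimage continuous_subtype_val
    obtain ⟨u, hu, hucl⟩ := hcl.exists_closed_singleton ⟨⟨y, hyV⟩, hy⟩
    let i : ι := ⟨⟨V₀, hV₀⟩, ⟨u, hucl⟩⟩
    -- the chosen point of the slice
    obtain ⟨z₀, hz₁, hz₂⟩ : ∃ z₀ : Z'.left, (h.left z₀ = u.1) ∧ z₀ ∈ goodLocus h := by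
      let jz : pullback (gi i) t.left ⟶ Z'.left := habS.lift (pullback.fst _ _ ≫ Sigma.ι Zi i) (pullback.snd _ _)
        (by
          rw [Category.assoc, show Sigma.ι Zi i ≫ g.left = gi i from Sigma.ι_desc _ _]
          exact pullback.condition)
      have hj : jz ≫ b.left = pullback.snd (gi i) t.left := habS.lift_snd _ _ _
      have hpj : IsPullback jz (pullback.fst (gi i) t.left) a.left (Sigma.ι Zi i) := by
        refine IsPullback.of_right ?_ (habS.lift_fst _ _ _) habS.flip
        rw [hj, show Sigma.ι Zi i ≫ g.left = gi i from Sigma.ι_desc _ _]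
        exact (IsPullback.of_hasPullback (gi i) t.left).flip
      haveI : IsOpenImmersion jz := MorphismProperty.of_isPullback hpj.flip inferInstance
      have hjh : jz ≫ h.left = pullback.snd (gi i) t.left ≫ s.left := by
        show jz ≫ b.left ≫ s.left = _
        rw [← Category.assoc, hj]
      refine ⟨jz (z i), ?_, ?_, ?_⟩
      · rw [← Scheme.Hom.comp_apply, hjh, Scheme.Hom.comp_apply]
        exact hz i
      · rw [← flat_stalkMap_comp_iff jz, hjh]
        exact hzf i
      · rw [← Scheme.Hom.quasiFiniteAt_comp_iff_of_isOpenImmersion, hjh]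
        exact hzq i
    obtain ⟨j, w₀, hw₀⟩ := 𝒱.exists_eq ⟨a.left z₀, ⟨z₀, hz₂, rfl⟩⟩
    have hwe : e.left ((sigmaOpenCover 𝒱.X).f j w₀) = a.left z₀ := by
      show (Sigma.desc ej) _ = _
      rw [← Scheme.Hom.comp_apply, show (sigmaOpenCover 𝒱.X).f j ≫ Sigma.desc ej = ej j from Sigma.ι_desc _ _,
        Scheme.Hom.comp_apply]
      exact (congrArg O.ι hw₀).trans rfl
    obtain ⟨w', hw', -⟩ := exists_point_pullback hkS z₀ _ hwe.symm
    refine hu ⟨w', ?_⟩
    rw [Over.comp_left, Scheme.Hom.comp_apply, hw', hz₁]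
  let π' := (yon S).map e ≫ (yon S).map g ≫ π
  have hrep : Representable π' := Groth.AlgSpBasic.representable_of_diag hd π'
  haveI := hF
  haveI := hP
  haveI := hQ
  have hπ' : π' = (yon S).map (e ≫ g) ≫ π := by
    rw [Functor.map_comp, Category.assoc]
  refine ⟨W, e ≫ g, ?_⟩
  rw [← hπ']
  exact ⟨Groth.HenselPoint.isSeparated_sigma 𝒱.X, compactInAffine_sigma 𝒱.X,
    Groth.AlgSpBasic.repWith_of_isLocallySurjective π' hrep π _ _ hsqW ((AlgSp.repWith_yon_map_iff _ _).2 hF),
    Groth.AlgSpBasic.repWith_of_isLocallySurjective π' hrep π _ _ hsqW ((AlgSp.repWith_yon_map_iff _ _).2 hP),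
    Groth.AlgSpBasic.repWith_of_isLocallySurjective π' hrep π _ _ hsqW ((AlgSp.repWith_yon_map_iff _ _).2 hQ),
    Groth.AlgSpBasic.repWith_of_isLocallySurjective π' hrep π _ _ hsqW ((AlgSp.repWith_yon_map_iff _ _).2 hsur)⟩

/-- A sheaf with a flat cover by a scheme has a flat quasi-finite cover by a disjoint union of affines. -/
theorem exists_lqf_cover (sq : IsPullback ((yon S).map t) ((yon S).map s) π π)
    (hd : Representable (Limits.diag F)) [Sheaf.IsLocallySurjective π]
    [Flat t.left] [Flat s.left] [LocallyOfFinitePresentation t.left]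
    [LocallyOfFinitePresentation s.left] :
    ∃ (U' : Over S) (π' : (yon S).obj U' ⟶ F), U'.left.IsSeparated ∧ CompactInAffine U'.left ∧
      RepWith @Flat π' ∧ RepWith @LocallyOfFinitePresentation π' ∧ RepWith @LocallyQuasiFinite π' ∧
      RepWith @Surjective π' := by
  obtain ⟨U', g, h⟩ := exists_lqf_cover_over sq hd
  exact ⟨U', _, h⟩

end Groth.AlgSpFppf
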