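import Groth.Agent.AlgSpFppf.SlicePoints
import Groth.Agent.SchemeMorphisms.FibreBaseChange
import Groth.Agent.CMMor.NoethBaseChange
import Groth.Agent.AlgSpBasic.Quotient

/-!
# The flat quasi-finite locus of a slice descends
-/

set_option autoImplicit false
set_option linter.style.haveILetI false
set_option backward.isDefEq.respectTransparency false
set_option backward.isDefEq.respectTransparency.types false
universe u

open CategoryTheory CategoryTheory.Limits AlgebraicGeometry AlgSp

namespace Groth.AlgSpFppf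

variable {S : Scheme.{u}} {F : Sp S} {R U Z Z' : Over S} {s t : R ⟶ U} {π : (yon S).obj U ⟶ F}

theorem exists_point_pullback {P X Y T : Scheme.{u}} {p : P ⟶ X} {q : P ⟶ Y} {f : X ⟶ T}
    {g : Y ⟶ T} (h : IsPullback p q f g) (x : X) (y : Y) (e : f x = g y) :
    ∃ w, p w = x ∧ q w = y := by
  obtain ⟨w, hw₁, hw₂⟩ := Scheme.Pullback.exists_preimage_pullback x y e
  refine ⟨h.isoPullback.inv w, ?_, ?_⟩
  · rw [← Scheme.Hom.comp_apply, h.isoPullback_inv_fst]; exact hw₁
  · rw [← Scheme.Hom.comp_apply, h.isoPullback_inv_snd]; exact hw₂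

/-- The points where the base change of a slice is flat and quasi-finite. -/
def goodLocus (h : Z' ⟶ U) : Set Z'.left :=
  {z | (h.left.stalkMap z).hom.Flat ∧ h.left.QuasiFiniteAt z}

theorem isOpen_goodLocus (h : Z' ⟶ U) [LocallyOfFinitePresentation h.left] : IsOpen (goodLocus h) :=
  (Groth.CMMor.isOpen_flatAt h.left).inter h.left.isOpen_quasiFiniteAt

/-- The good locus of a base change of a map to the quotient is invariant. -/
theorem mem_goodLocus_of_eq (sq : IsPullback ((yon S).map t) ((yon S).map s) π π)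
    [Flat t.left] [Flat s.left] [LocallyOfFinitePresentation t.left]
    [LocallyOfFinitePresentation s.left] {a : Z' ⟶ Z} {h : Z' ⟶ U} [LocallyOfFinitePresentation h.left]
    {g : (yon S).obj Z ⟶ F} (sqg : IsPullback ((yon S).map a) ((yon S).map h) g π)
    {z z' : Z'.left} (e : a.left z = a.left z') (hz : z ∈ goodLocus h) : z' ∈ goodLocus h := by
  obtain ⟨Z₂, p₁, p₂, hp⟩ : ∃ (Z₂ : Over S) (p₁ p₂ : Z₂ ⟶ Z'), IsPullback p₁ p₂ a a := by
    obtain ⟨W, p₁, p₂, hp⟩ := Groth.AlgSpBasic.exists_pullback_of_diag (IsAlgSpace.yon_obj Z).diag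
      ((yon S).map a) ((yon S).map a)
    exact ⟨W, p₁, p₂, Groth.AlgSpBasic.isPullback_of_yon hp⟩
  have hpS := hp.map (Over.forget S)
  change IsPullback p₁.left p₂.left a.left a.left at hpS
  obtain ⟨w, hw₁, hw₂⟩ := exists_point_pullback hpS z z' e
  have key : ∀ {s t : R ⟶ U} (_ : IsPullback ((yon S).map t) ((yon S).map s) π π) {p₁ p₂ : Z₂ ⟶ Z'}
      (_ : IsPullback p₁ p₂ a a), ∃ q : Z₂ ⟶ R, q ≫ t = p₁ ≫ h ∧ q ≫ s = p₂ ≫ h ∧ IsPullback p₁ q h t := by
    intro s t sq p₁ p₂ hp
    have hP := hp.map (yon S)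
    have hout : IsPullback ((yon S).map p₁) ((yon S).map p₂ ≫ (yon S).map h) ((yon S).map h ≫ π) π :=
      sqg.w ▸ hP.paste_vert sqg
    obtain ⟨q, hq⟩ := (yon S).map_surjective (sq.lift ((yon S).map p₁ ≫ (yon S).map h)
      ((yon S).map p₂ ≫ (yon S).map h) (by rw [Category.assoc]; exact hout.w))
    have q₁ : q ≫ t = p₁ ≫ h := (yon S).map_injective (by
      rw [Functor.map_comp, Functor.map_comp, hq, sq.lift_fst])
    have q₂ : q ≫ s = p₂ ≫ h := (yon S).map_injective (by
      rw [Functor.map_comp, Functor.map_comp, hq, sq.lift_snd])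
    refine ⟨q, q₁, q₂, IsPullback.of_map (yon S) q₁.symm ?_⟩
    refine IsPullback.of_bot ?_ (by rw [← Functor.map_comp, ← Functor.map_comp, q₁]) sq
    rw [← Functor.map_comp, q₂, Functor.map_comp]
    exact hout
  obtain ⟨q, hq₁, hq₂, sq₁⟩ := key sq hp
  obtain ⟨q', hq'₁, hq'₂, sq₂⟩ := key sq.flip hp.flip
  have hqq : q' = q := by
    refine (yon S).map_injective (sq.hom_ext ?_ ?_)
    · rw [← Functor.map_comp, ← Functor.map_comp, hq'₂, hq₁]
    · rw [← Functor.map_comp, ← Functor.map_comp, hq'₁, hq₂]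
  subst hqq
  have h₁ := sq₁.map (Over.forget S)
  have h₂ := sq₂.map (Over.forget S)
  change IsPullback p₁.left q'.left h.left t.left at h₁
  change IsPullback p₂.left q'.left h.left s.left at h₂
  constructor
  · have hf : (q'.left.stalkMap w).hom.Flat :=
      Groth.Misc13.FlatBC.flat_stalkMap_baseChange h₁.flip w (by rw [hw₁]; exact hz.1)
    rw [← hw₂]
    exact Groth.CMMor.flat_stalkMap_of_baseChange h.left s.left q'.left p₂.left h₂ w (Flat.stalkMap _ _) hf
  · rw [← hw₂, ← Groth.SchemeMorphisms.quasiFiniteAt_baseChange_iff h.left s.left p₂.left q'.left h₂ w,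
      Groth.SchemeMorphisms.quasiFiniteAt_baseChange_iff h.left t.left p₁.left q'.left h₁ w, hw₁]
    exact hz.2

/-- A map landing in the image of the good locus pulls the base change back to a flat quasi-finite map. -/
theorem goodLocus_image_of_etale (sq : IsPullback ((yon S).map t) ((yon S).map s) π π)
    [Flat t.left] [Flat s.left] [LocallyOfFinitePresentation t.left]
    [LocallyOfFinitePresentation s.left] {a : Z' ⟶ Z} {h : Z' ⟶ U} [LocallyOfFinitePresentation h.left]
    {g : (yon S).obj Z ⟶ F} (sqg : IsPullback ((yon S).map a) ((yon S).map h) g π)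
    {W W' : Over S} {e : W ⟶ Z} [Etale e.left] {a' : W' ⟶ W} {k : W' ⟶ Z'}
    (sqe : IsPullback k a' a e) (he : ∀ w, e.left w ∈ a.left '' goodLocus h) :
    IsPullback ((yon S).map a') ((yon S).map (k ≫ h)) ((yon S).map e ≫ g) π ∧
      Flat (k ≫ h).left ∧ LocallyOfFinitePresentation (k ≫ h).left ∧ LocallyQuasiFinite (k ≫ h).left := by
  have hk := sqe.map (Over.forget S)
  change IsPullback k.left a'.left a.left e.left at hk
  haveI : Etale k.left := MorphismProperty.of_isPullback hk.flip inferInstance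
  have hgood : ∀ w : W'.left, k.left w ∈ goodLocus h := by
    intro w
    obtain ⟨z, hz, hze⟩ := he (a'.left w)
    refine mem_goodLocus_of_eq sq sqg (hze.trans ?_) hz
    rw [← Scheme.Hom.comp_apply, ← Scheme.Hom.comp_apply, hk.w]
  haveI : LocallyOfFinitePresentation (k ≫ h).left := by rw [Over.comp_left]; infer_instance
  refine ⟨?_, ?_, inferInstance, ?_⟩
  · rw [Functor.map_comp]
    exact (sqe.map (yon S)).flip.paste_vert sqg
  · rw [Flat.iff_flat_stalkMap]
    intro w
    rw [Over.comp_left, Scheme.Hom.stalkMap_comp, CommRingCat.hom_comp]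
    exact RingHom.Flat.comp (hgood w).1 (Flat.stalkMap _ _)
  · rw [← Scheme.Hom.quasiFiniteLocus_eq_top_iff, eq_top_iff]
    intro w _
    haveI : LocallyQuasiFinite k.left := Groth.AlgSpBasic.locallyQuasiFinite_of_formallyUnramified k.left
    have h1 : (k.left.stalkMap w).hom.QuasiFinite := k.left.quasiFiniteAt w
    show ((k ≫ h).left.stalkMap w).hom.QuasiFinite
    rw [Over.comp_left, Scheme.Hom.stalkMap_comp, CommRingCat.hom_comp]
    exact RingHom.QuasiFinite.comp h1 (hgood w).2

end Groth.AlgSpFppf
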