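import Groth.Agent.AlgSpFppf.SliceScheme
import Groth.Agent.S4860
import Groth.Agent.S1341

/-!
# Slices through the fibres over closed points of affine opens
-/

set_option autoImplicit false
set_option linter.style.haveILetI false
set_option backward.isDefEq.respectTransparency false
set_option backward.isDefEq.respectTransparency.types false
universe u

open CategoryTheory CategoryTheory.Limits AlgebraicGeometry Topology

namespace Groth.AlgSpFppf

theorem isMaximal_primeIdealOf {X : Scheme.{u}} {U : X.Opens} (hU : IsAffineOpen U) (x : U)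
    (hx₀ : IsClosed ({x} : Set U)) : (hU.primeIdealOf x).asIdeal.IsMaximal := by
  apply (hU.primeIdealOf x).isClosed_singleton_iff_isMaximal.mp
  rw [IsAffineOpen.primeIdealOf, ← Set.image_singleton]
  refine (Topology.IsClosedEmbedding.isClosed_iff_image_isClosed <|
    IsHomeomorph.isClosedEmbedding ?_).mp hx₀
  apply (TopCat.isIso_iff_isHomeomorph _).mp
  infer_instance

/-- The image of a closed point of an affine open under a morphism locally of finite type is closed in an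
affine open. -/
theorem exists_isMaximal_image {X Y : Scheme.{u}} (f : X ⟶ Y) [LocallyOfFiniteType f] {W : X.Opens}
    (hW : IsAffineOpen W) (x : W) (hx : IsClosed ({x} : Set W)) {Ω : Y.Opens} (hΩ : f x.1 ∈ Ω) :
    ∃ (V : Y.Opens) (hV : IsAffineOpen V) (h : f x.1 ∈ V), V ≤ Ω ∧
      (hV.primeIdealOf ⟨f x.1, h⟩).asIdeal.IsMaximal := by
  obtain ⟨V, hV, hxV, hVΩ⟩ := exists_isAffineOpen_mem_and_subset (x := f x.1) hΩ
  obtain ⟨g, hg, hxg⟩ := hW.exists_basicOpen_le (U := W) (V := f ⁻¹ᵁ V ⊓ W) ⟨x.1, hxV, x.2⟩ x.2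
  let W' := X.basicOpen g
  have hW' : IsAffineOpen W' := hW.basicOpen g
  have hW'W : W' ≤ W := X.basicOpen_le g
  have hmax := isMaximal_primeIdealOf hW' ⟨x.1, hxg⟩ (by
    have h := hx.preimage (f := fun z : W' => (⟨z.1, hW'W z.2⟩ : W)) (by fun_prop)
    rwa [show (fun z : W' => (⟨z.1, hW'W z.2⟩ : W)) ⁻¹' {x} = {⟨x.1, hxg⟩} from
      Set.ext fun z => ⟨fun e => Subtype.ext (congrArg (fun w : W => w.1) e),
        fun e => Subtype.ext (congrArg (fun w : W' => w.1) e)⟩] at h)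
  have e : W' ≤ f ⁻¹ᵁ V := hg.trans inf_le_left
  let φ := (f.appLE V W' e).hom
  let q := (hW'.primeIdealOf ⟨x.1, hxg⟩).asIdeal
  let p := (hV.primeIdealOf ⟨f x.1, hxV⟩).asIdeal
  have hpq : q.comap φ = p :=
    congrArg PrimeSpectrum.asIdeal (IsAffineOpen.comap_primeIdealOf_appLE V hV W' hW' e hxg)
  have hφ : φ.FiniteType := f.finiteType_appLE hV hW' e
  haveI : q.IsMaximal := hmax
  let K := Γ(X, W') ⧸ q
  letI : Field K := Ideal.Quotient.field q
  letI : Algebra Γ(Y, V) Γ(X, W') := φ.toAlgebra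
  haveI : Algebra.FiniteType Γ(Y, V) Γ(X, W') := hφ
  let ψ : Γ(Y, V) ⧸ p →+* K := Ideal.quotientMap q φ hpq.ge
  letI : Algebra (Γ(Y, V) ⧸ p) K := ψ.toAlgebra
  haveI : IsScalarTower Γ(Y, V) (Γ(Y, V) ⧸ p) K := IsScalarTower.of_algebraMap_eq fun _ => rfl
  haveI : Algebra.FiniteType Γ(Y, V) K := inferInstance
  haveI : Algebra.FiniteType (Γ(Y, V) ⧸ p) K :=
    Algebra.FiniteType.of_restrictScalars_finiteType Γ(Y, V) (Γ(Y, V) ⧸ p) K
  have hinj : Function.Injective (algebraMap (Γ(Y, V) ⧸ p) K) :=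
    Ideal.quotientMap_injective' hpq.le
  have htfae := Groth.Agent.S4860.result (Γ(Y, V) ⧸ p)
  have h4 : IsOpen ({⟨⊥, Ideal.bot_prime⟩} : Set (PrimeSpectrum (Γ(Y, V) ⧸ p))) :=
    ((htfae.out 2 3 (a := ∃ (K : Type u) (_ : Field K) (_ : Algebra (Γ(Y, V) ⧸ p) K),
        Function.Injective (algebraMap (Γ(Y, V) ⧸ p) K) ∧ Algebra.FiniteType (Γ(Y, V) ⧸ p) K)
      (b := IsOpen ({⟨⊥, Ideal.bot_prime⟩} : Set (PrimeSpectrum (Γ(Y, V) ⧸ p))))).1
      ⟨K, inferInstance, inferInstance, hinj, inferInstance⟩)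
  obtain ⟨_, ⟨a, rfl⟩, ha, hsub⟩ := PrimeSpectrum.isTopologicalBasis_basic_opens.isOpen_iff.mp h4 _ rfl
  obtain ⟨a, rfl⟩ := Ideal.Quotient.mk_surjective a
  have hap : a ∉ p := fun h => ha (show Ideal.Quotient.mk p a ∈ (⊥ : Ideal (Γ(Y, V) ⧸ p)) by
    rw [Ideal.Quotient.eq_zero_iff_mem.2 h]; exact zero_mem _)
  have hfa : f x.1 ∈ Y.basicOpen a :=
    (Groth.QCohMod.mem_basicOpen_iff_notMem_primeIdealOf hV a (f x.1) hxV).mpr hap
  refine ⟨Y.basicOpen a, hV.basicOpen a, hfa, (Y.basicOpen_le a).trans hVΩ,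
    isMaximal_primeIdealOf _ _ ?_⟩
  rw [← closure_subset_iff_isClosed]
  intro y hy
  rw [← specializes_iff_mem_closure] at hy
  have hy' : f x.1 ⤳ y.1 := hy.map continuous_subtype_val
  have hyV : y.1 ∈ V := Y.basicOpen_le a y.2
  let P := hV.primeIdealOf ⟨y.1, hyV⟩
  have hle : p ≤ P.asIdeal := by
    refine (PrimeSpectrum.le_iff_specializes (hV.primeIdealOf ⟨f x.1, hxV⟩) P).mpr ?_
    rw [← hV.fromSpec.isOpenEmbedding.isInducing.specializes_iff, hV.fromSpec_primeIdealOf,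
      hV.fromSpec_primeIdealOf]
    exact hy'
  haveI : (P.asIdeal.map (Ideal.Quotient.mk p)).IsPrime :=
    Ideal.map_isPrime_of_surjective Ideal.Quotient.mk_surjective (by rwa [Ideal.mk_ker])
  have hmem : (⟨P.asIdeal.map (Ideal.Quotient.mk p), inferInstance⟩ : PrimeSpectrum (Γ(Y, V) ⧸ p)) ∈
      PrimeSpectrum.basicOpen (Ideal.Quotient.mk p a) := by
    intro h
    have hP : a ∈ (P.asIdeal.map (Ideal.Quotient.mk p)).comap (Ideal.Quotient.mk p) := h
    rw [Ideal.comap_map_of_surjective _ Ideal.Quotient.mk_surjective, ← RingHom.ker_eq_comap_bot,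
      Ideal.mk_ker, sup_eq_left.mpr hle] at hP
    exact (Groth.QCohMod.mem_basicOpen_iff_notMem_primeIdealOf hV a y.1 hyV).mp y.2 hP
  have h0 : P.asIdeal.map (Ideal.Quotient.mk p) = ⊥ := congrArg PrimeSpectrum.asIdeal (hsub hmem)
  rw [← le_bot_iff, Ideal.map_le_iff_le_comap, ← RingHom.ker_eq_comap_bot, Ideal.mk_ker] at h0
  refine Subtype.ext ?_
  have hPp : P = hV.primeIdealOf ⟨f x.1, hxV⟩ := PrimeSpectrum.ext (le_antisymm h0 hle)
  have := congrArg hV.fromSpec hPp
  rwa [hV.fromSpec_primeIdealOf, hV.fromSpec_primeIdealOf] at this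

variable {R U : Scheme.{u}} {s t : R ⟶ U}

/-- Over every closed point of an affine open there is a flat quasi-finite point of a slice. -/
theorem exists_slice_over [Flat s] [LocallyOfFinitePresentation s] [Surjective s] [LocallyOfFiniteType t]
    (hmono : FieldInjective s t) {V₀ : U.Opens} (u : V₀)
    (hu : IsClosed ({u} : Set V₀)) :
    ∃ (V : U.Opens) (hV : IsAffineOpen V) (l : List Γ(U, V))
      (z : ↥(pullback (Spec.map (CommRingCat.ofHom (Ideal.Quotient.mk (Ideal.ofList l))) ≫ hV.fromSpec) t)),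
      s (pullback.snd (Spec.map (CommRingCat.ofHom (Ideal.Quotient.mk (Ideal.ofList l))) ≫ hV.fromSpec) t z) = u.1 ∧
      ((pullback.snd (Spec.map (CommRingCat.ofHom (Ideal.Quotient.mk (Ideal.ofList l))) ≫ hV.fromSpec) t ≫ s).stalkMap z).hom.Flat ∧
      (pullback.snd (Spec.map (CommRingCat.ofHom (Ideal.Quotient.mk (Ideal.ofList l))) ≫ hV.fromSpec) t ≫ s).QuasiFiniteAt z := by
  obtain ⟨hop, hd⟩ := Groth.Agent.S1341.result s
  haveI : LocallyOfFiniteType (s.fiberToSpecResidueField u.1) :=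
    inferInstanceAs (LocallyOfFiniteType (pullback.snd s _))
  haveI : JacobsonSpace ↥(s.fiber u.1) :=
    LocallyOfFiniteType.jacobsonSpace (s.fiberToSpecResidueField u.1)
  obtain ⟨r₀, hr₀⟩ := s.surjective u.1
  haveI : Nonempty ↥(s.fiber u.1) := by
    obtain ⟨w, -⟩ : r₀ ∈ Set.range (s.fiberι u.1) := by rw [Scheme.Hom.range_fiberι]; exact hr₀
    exact ⟨w⟩
  have hne : ((s.fiberι u.1) ⁻¹' {x : R | MoreMor.IsCMAt s x}).Nonempty := (hd u.1).nonempty
  obtain ⟨w, hwcm, hwcl⟩ := nonempty_inter_closedPoints hne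
    (hop.preimage (s.fiberι u.1).continuous).isLocallyClosed
  let r := s.fiberι u.1 w
  have hr : s r = u.1 := by
    have : r ∈ Set.range (s.fiberι u.1) := ⟨w, rfl⟩
    rwa [Scheme.Hom.range_fiberι] at this
  have hcl : IsClosed ({s.asFiber r} : Set (s.fiber (s r))) := by
    have key : ∀ (y : U) (w : s.fiber y) (hy : s (s.fiberι y w) = y), IsClosed ({w} : Set (s.fiber y)) →
        IsClosed ({s.asFiber (s.fiberι y w)} : Set (s.fiber (s (s.fiberι y w)))) := by
      intro y w hy hw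
      generalize hx : s.fiberι y w = x at hy ⊢
      subst hy
      have : w = s.asFiber x := (s.fiberι (s x)).isEmbedding.injective (by rw [hx, s.fiberι_asFiber])
      rwa [← this]
    exact key _ w hr hwcl
  obtain ⟨W, hW, hrW, hWV⟩ := exists_isAffineOpen_mem_and_subset (x := r)
    (show r ∈ s ⁻¹ᵁ V₀ from by show s r ∈ V₀; rw [hr]; exact u.2)
  have hclW : IsClosed ({⟨r, hrW⟩} : Set W) := by
    rw [← closure_subset_iff_isClosed]
    intro y hy
    rw [← specializes_iff_mem_closure] at hy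
    have hy' : r ⤳ y.1 := hy.map continuous_subtype_val
    have hsy : s y.1 = u.1 := by
      have h1 : u.1 ⤳ s y.1 := by rw [← hr]; exact hy'.map s.continuous
      have h2 : (⟨s y.1, hWV y.2⟩ : V₀) ∈ ({u} : Set V₀) := by
        rw [← hu.closure_eq, ← specializes_iff_mem_closure]
        exact (IsInducing.subtypeVal.specializes_iff).mp h1
      exact congrArg Subtype.val h2
    obtain ⟨v, hv⟩ : y.1 ∈ Set.range (s.fiberι u.1) := by rw [Scheme.Hom.range_fiberι]; exact hsy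
    have hwv : w ⤳ v := by
      rw [← (s.fiberι u.1).isEmbedding.toIsInducing.specializes_iff, hv]
      exact hy'
    have : v = w := hwv.mem_closed hwcl rfl
    exact Subtype.ext (by rw [← hv, this])
  obtain ⟨V, hV, hrV, -, hmax⟩ := exists_isMaximal_image t hW ⟨r, hrW⟩ hclW (Ω := ⊤) trivial
  obtain ⟨l, z, hz, hzf, hzq⟩ := exists_slice_at (s := s) (t := t) hmono r hwcm hcl hV hrV hmax
  exact ⟨V, hV, l, z, by rw [hz, hr], hzf, hzq⟩

end Groth.AlgSpFppf
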