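import Groth.Agent.AlgSpFppf.SliceSeq
import Groth.Agent.FlatMor2.FibCrit.RegChart
import Groth.Agent.Ega4Algebra2.SchemeFibre
import Groth.Agent.Ega4Algebra2.CMEquiv
import Groth.Agent.CMMor.Locus

/-!
# Slicing a flat morphism by functions pulled back along a second morphism
-/

set_option autoImplicit false
set_option linter.style.haveILetI false
set_option backward.isDefEq.respectTransparency false
set_option backward.isDefEq.respectTransparency.types false
universe u

open CategoryTheory CategoryTheory.Limits AlgebraicGeometry IsLocalRing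

namespace Groth.AlgSpFppf

theorem isPushout_quotient {E C : CommRingCat.{u}} (φ : E ⟶ C) (I : Ideal E) (J : Ideal C)
    (hJ : J = I.map φ.hom) :
    IsPushout φ (CommRingCat.ofHom (Ideal.Quotient.mk I)) (CommRingCat.ofHom (Ideal.Quotient.mk J))
      (CommRingCat.ofHom (Ideal.quotientMap J φ.hom (hJ ▸ Ideal.le_comap_map))) := by
  subst hJ
  have hw : φ ≫ CommRingCat.ofHom (Ideal.Quotient.mk (I.map φ.hom)) =
      CommRingCat.ofHom (Ideal.Quotient.mk I) ≫
        CommRingCat.ofHom (Ideal.quotientMap (I.map φ.hom) φ.hom Ideal.le_comap_map) :=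
    CommRingCat.hom_ext (RingHom.ext fun _ => rfl)
  have hlift : ∀ c : PushoutCocone φ (CommRingCat.ofHom (Ideal.Quotient.mk I)),
      ∀ x ∈ I.map φ.hom, c.inl.hom x = 0 := by
    intro c x hx
    have hle : I.map φ.hom ≤ RingHom.ker c.inl.hom := Ideal.map_le_iff_le_comap.2 fun a ha => by
      have := ConcreteCategory.congr_hom c.condition a
      refine (this.trans ?_ : c.inl.hom (φ.hom a) = 0)
      show c.inr.hom (Ideal.Quotient.mk I a) = 0
      rw [Ideal.Quotient.eq_zero_iff_mem.2 ha, map_zero]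
    exact hle hx
  refine ⟨⟨hw⟩, ⟨PushoutCocone.IsColimit.mk _
    (fun c => CommRingCat.ofHom (Ideal.Quotient.lift (I.map φ.hom) c.inl.hom (hlift c)))
    (fun c => CommRingCat.hom_ext (RingHom.ext fun _ => rfl))
    (fun c => CommRingCat.hom_ext (Ideal.Quotient.ringHom_ext (RingHom.ext fun a => ?_)))
    (fun c m h₁ _ => CommRingCat.hom_ext (Ideal.Quotient.ringHom_ext (RingHom.ext fun x => ?_)))⟩⟩
  · exact ConcreteCategory.congr_hom c.condition a
  · exact ConcreteCategory.congr_hom h₁ x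

theorem flat_stalkMap_comp_iff {V X S : Scheme.{u}} (j : V ⟶ X) [IsOpenImmersion j] (f : X ⟶ S) (v : V) :
    ((j ≫ f).stalkMap v).hom.Flat ↔ (f.stalkMap (j v)).hom.Flat := by
  rw [Scheme.Hom.stalkMap_comp, CommRingCat.hom_comp]
  exact RingHom.Flat.respectsIso.cancel_right_isIso _ _

variable {R U : Scheme.{u}} {s t : R ⟶ U}

/-- The points with values in fields of `R` are determined by their source and target. -/
def FieldInjective (s t : R ⟶ U) : Prop :=
  ∀ (K : Type u) [Field K] (a b : Spec (CommRingCat.of K) ⟶ R), a ≫ s = b ≫ s → a ≫ t = b ≫ t → a = b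

/-- Slicing at a Cohen-Macaulay point closed in its fibre by functions vanishing at its target, closed in an
affine open. -/
theorem exists_slice_at [LocallyOfFinitePresentation s] (hmono : FieldInjective s t) (r : R)
    (hcm : MoreMor.IsCMAt s r) (hcl : IsClosed ({s.asFiber r} : Set (s.fiber (s r))))
    {V : U.Opens} (hV : IsAffineOpen V) (hrV : t r ∈ V)
    (hmax : (hV.primeIdealOf ⟨t r, hrV⟩).asIdeal.IsMaximal) :
    ∃ (l : List Γ(U, V)) (z : ↥(pullback (Spec.map (CommRingCat.ofHom (Ideal.Quotient.mk (Ideal.ofList l))) ≫ hV.fromSpec) t)),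
      pullback.snd (Spec.map (CommRingCat.ofHom (Ideal.Quotient.mk (Ideal.ofList l))) ≫ hV.fromSpec) t z = r ∧
      ((pullback.snd (Spec.map (CommRingCat.ofHom (Ideal.Quotient.mk (Ideal.ofList l))) ≫ hV.fromSpec) t ≫ s).stalkMap z).hom.Flat ∧
      (pullback.snd (Spec.map (CommRingCat.ofHom (Ideal.Quotient.mk (Ideal.ofList l))) ≫ hV.fromSpec) t ≫ s).QuasiFiniteAt z := by
  classical
  obtain ⟨hflat, hcmF⟩ := hcm
  obtain ⟨V₀, hV₀, hrV₀, -⟩ :=
    exists_isAffineOpen_mem_and_subset (x := s r) (TopologicalSpace.Opens.mem_top (s r))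
  obtain ⟨W, hW, hrW, hWV⟩ := exists_isAffineOpen_mem_and_subset (x := r)
    (show r ∈ s ⁻¹ᵁ V₀ ⊓ t ⁻¹ᵁ V from ⟨hrV₀, hrV⟩)
  have e : W ≤ s ⁻¹ᵁ V₀ := fun x hx => (hWV hx).1
  have et : W ≤ t ⁻¹ᵁ V := fun x hx => (hWV hx).2
  letI : Algebra Γ(U, V₀) Γ(R, W) := (s.appLE V₀ W e).hom.toAlgebra
  haveI : Algebra.FinitePresentation Γ(U, V₀) Γ(R, W) := s.finitePresentation_appLE hV₀ hW e
  letI := U.presheaf.algebra_section_stalk ⟨s r, e hrW⟩
  letI := R.presheaf.algebra_section_stalk ⟨r, hrW⟩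
  let q := (hW.primeIdealOf ⟨r, hrW⟩).asIdeal
  haveI : IsLocalization.AtPrime (R.presheaf.stalk r) q := hW.isLocalization_stalk ⟨r, hrW⟩
  haveI : IsLocalization.AtPrime (U.presheaf.stalk (s r)) (q.under Γ(U, V₀)) :=
    Groth.FlatMor2.FibCrit.isLocalization_stalk_under s hV₀ hW e r hrW
  letI : Algebra (U.presheaf.stalk (s r)) (R.presheaf.stalk r) := (s.stalkMap r).hom.toAlgebra
  letI : Algebra Γ(U, V₀) (R.presheaf.stalk r) :=
    ((algebraMap Γ(R, W) (R.presheaf.stalk r)).comp (algebraMap Γ(U, V₀) Γ(R, W))).toAlgebra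
  haveI : IsScalarTower Γ(U, V₀) Γ(R, W) (R.presheaf.stalk r) := IsScalarTower.of_algebraMap_eq' rfl
  haveI : IsScalarTower Γ(U, V₀) (U.presheaf.stalk (s r)) (R.presheaf.stalk r) :=
    IsScalarTower.of_algebraMap_eq fun a =>
      (Groth.FlatMor2.FibCrit.stalkMap_germ_appLE s e r hrW a).symm
  have hmaxJ : Ideal.map (s.stalkMap r).hom (IsLocalRing.maximalIdeal (U.presheaf.stalk (s r))) =
      (q.under Γ(U, V₀)).map (algebraMap Γ(U, V₀) (R.presheaf.stalk r)) := by
    rw [IsScalarTower.algebraMap_eq Γ(U, V₀) (U.presheaf.stalk (s r)) (R.presheaf.stalk r),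
      ← Ideal.map_map, IsLocalization.AtPrime.map_eq_maximalIdeal (q.under Γ(U, V₀))
        (U.presheaf.stalk (s r))]
    rfl
  have hcm' : LocCoh.IsCohenMacaulayLocalRing
      (R.presheaf.stalk r ⧸ (q.under Γ(U, V₀)).map (algebraMap Γ(U, V₀) (R.presheaf.stalk r))) := by
    obtain ⟨eq'⟩ := Groth.Ega4b.nonempty_fiber_stalk_equiv s (s r) (s.asFiber r) r (s.fiberι_asFiber r)
    exact Groth.Ega4b.isCohenMacaulayLocalRing_of_ringEquiv
      (eq'.symm.trans (Ideal.quotEquivOfEq hmaxJ)) hcmF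
  -- the second morphism on sections
  let τ := (t.appLE V W et).hom
  let p := (hV.primeIdealOf ⟨t r, hrV⟩).asIdeal
  have hpq : q.comap τ = p :=
    congrArg PrimeSpectrum.asIdeal (IsAffineOpen.comap_primeIdealOf_appLE V hV W hW et hrW)
  haveI : p.IsMaximal := hmax
  have hpoints : ∀ (K : Type u) [Field K] (h₁ h₂ : Γ(R, W) →+* K),
      h₁.comp (algebraMap Γ(U, V₀) Γ(R, W)) = h₂.comp (algebraMap Γ(U, V₀) Γ(R, W)) →
      h₁.comp τ = h₂.comp τ → h₁ = h₂ := by
    intro K _ h₁ h₂ hs ht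
    have h := hmono K (Spec.map (CommRingCat.ofHom h₁) ≫ hW.fromSpec) (Spec.map (CommRingCat.ofHom h₂) ≫ hW.fromSpec)
      (by
        rw [Category.assoc, Category.assoc, ← hV₀.SpecMap_appLE_fromSpec s hW e, ← Spec.map_comp_assoc,
          ← Spec.map_comp_assoc]
        exact congrArg (fun φ => Spec.map φ ≫ hV₀.fromSpec) (CommRingCat.hom_ext hs))
      (by
        rw [Category.assoc, Category.assoc, ← hV.SpecMap_appLE_fromSpec t hW et, ← Spec.map_comp_assoc,
          ← Spec.map_comp_assoc]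
        exact congrArg (fun φ => Spec.map φ ≫ hV.fromSpec) (CommRingCat.hom_ext ht))
    rw [cancel_mono] at h
    exact congrArg CommRingCat.Hom.hom (Spec.map_injective h)
  obtain ⟨l, hl, hreg, hmin⟩ := exists_regular_numerators_of_ideal (A := Γ(U, V₀)) τ p q
    (fun a ha => (hpq.symm.le ha : a ∈ q.comap τ))
    (fun q' hq' hu hle hp => eq_of_forall_field_points τ hpoints p q q' hu hle hp)
    (R.presheaf.stalk r) hcm'
  let c := l.map τ
  have hcq : ∀ a ∈ c, a ∈ q := by
    intro a ha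
    obtain ⟨b, hb, rfl⟩ := List.mem_map.1 ha
    exact (hpq.symm.le (hl b hb) : b ∈ q.comap τ)
  have hmem : ∀ a ∈ c, R.presheaf.germ W r hrW a ∈ IsLocalRing.maximalIdeal (R.presheaf.stalk r) :=
    fun a ha => (IsLocalization.AtPrime.to_map_mem_maximal_iff (R.presheaf.stalk r) q a).mpr (hcq a ha)
  obtain ⟨g, hrg, hall⟩ := Groth.FlatMor2.FibCrit.exists_regular_nhd s hV₀ hW e r hrW hflat c hmem (by
    refine (RingTheory.Sequence.isWeaklyRegular_map_algebraMap_iff
      (R.presheaf.stalk r ⧸ Ideal.map (s.stalkMap r).hom (IsLocalRing.maximalIdeal (U.presheaf.stalk (s r))))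
      _ c).mpr ?_
    rw [hmaxJ]
    exact hreg)
  have hxx : hW.fromSpec (hW.primeIdealOf ⟨r, hrW⟩) = r := hW.fromSpec_primeIdealOf ⟨r, hrW⟩
  have hfx : hV₀.fromSpec (hV₀.primeIdealOf ⟨s r, e hrW⟩) = s r := hV₀.fromSpec_primeIdealOf ⟨s r, e hrW⟩
  let I := Ideal.ofList c
  have hIq : I ≤ q := Ideal.span_le.mpr hcq
  let qb := q.map (Ideal.Quotient.mk I)
  haveI : qb.IsPrime := Ideal.map_isPrime_of_surjective Ideal.Quotient.mk_surjective (by rwa [Ideal.mk_ker])
  have hqb : qb.comap (Ideal.Quotient.mk I) = q := by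
    rw [Ideal.comap_map_of_surjective _ Ideal.Quotient.mk_surjective, ← RingHom.ker_eq_comap_bot,
      Ideal.mk_ker, sup_eq_left.mpr hIq]
  have hunder : ∀ P : Ideal (Γ(R, W) ⧸ I), (P.comap (Ideal.Quotient.mk I)).under Γ(U, V₀) = P.under Γ(U, V₀) :=
    fun P => rfl
  haveI : Algebra.FiniteType Γ(U, V₀) (Γ(R, W) ⧸ I) := inferInstance
  obtain ⟨d, hdq, hd⟩ := Groth.FlatMor2.FibCrit.exists_nhd_quasiFinite (A := Γ(U, V₀)) qb
    (by
      intro P hP hPu hle
      have hu : (P.comap (Ideal.Quotient.mk I)).under Γ(U, V₀) = q.under Γ(U, V₀) := by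
        rw [hunder, hPu, ← hunder, hqb]
      have hle' : q ≤ P.comap (Ideal.Quotient.mk I) := hqb ▸ Ideal.comap_mono hle
      let y : Spec Γ(R, W) := ⟨P.comap (Ideal.Quotient.mk I), inferInstance⟩
      have hxy : r ⤳ hW.fromSpec y := by
        rw [← hxx]
        exact ((PrimeSpectrum.le_iff_specializes _ _).mp hle').map hW.fromSpec.continuous
      have hfy : s (hW.fromSpec y) = s r := by
        rw [← Scheme.Hom.comp_apply, ← hV₀.SpecMap_appLE_fromSpec s hW e, Scheme.Hom.comp_apply,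
          ← hfx, ← IsAffineOpen.comap_primeIdealOf_appLE V₀ hV₀ W hW e hrW]
        exact congrArg hV₀.fromSpec (PrimeSpectrum.ext hu)
      obtain ⟨w, hw⟩ : hW.fromSpec y ∈ Set.range (s.fiberι (s r)) := by
        rw [Scheme.Hom.range_fiberι]; exact hfy
      have hsp : s.asFiber r ⤳ w := by
        rw [← (s.fiberι (s r)).isEmbedding.toIsInducing.specializes_iff, s.fiberι_asFiber, hw]
        exact hxy
      have hwx : w = s.asFiber r := hsp.mem_closed hcl rfl
      rw [hwx, s.fiberι_asFiber, ← hxx] at hw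
      have hy : y = hW.primeIdealOf ⟨r, hrW⟩ := hW.fromSpec.isOpenEmbedding.injective hw.symm
      refine Ideal.comap_injective_of_surjective _ Ideal.Quotient.mk_surjective ?_
      rw [hqb]
      exact congrArg PrimeSpectrum.asIdeal hy)
    (by
      intro P hP hPu hle
      refine Ideal.comap_injective_of_surjective _ Ideal.Quotient.mk_surjective ?_
      rw [hqb]
      refine hmin _ inferInstance (by rw [hunder, hPu, ← hunder, hqb]) (hqb ▸ Ideal.comap_mono hle) ?_
      calc I = RingHom.ker (Ideal.Quotient.mk I) := Ideal.mk_ker.symm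
        _ ≤ _ := Ideal.ker_le_comap _)
  obtain ⟨d, rfl⟩ := Ideal.Quotient.mk_surjective d
  have hrW' : r ∈ R.basicOpen (g * d) := by
    rw [Scheme.basicOpen_mul]
    exact ⟨hrg, (Groth.QCohMod.mem_basicOpen_iff_notMem_primeIdealOf hW d r hrW).mpr
      fun hd' => hdq (Ideal.mem_map_of_mem _ hd')⟩
  obtain ⟨hqf, -⟩ := hd (Ideal.Quotient.mk I (g * d)) (map_dvd _ (dvd_mul_left d g))
  obtain ⟨-, h2, -, -⟩ := hall (g * d) (dvd_mul_right g d)
  let W' := R.basicOpen (g * d)
  have hW' : IsAffineOpen W' := hW.basicOpen (g * d)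
  have et' : W' ≤ t ⁻¹ᵁ V := (R.basicOpen_le (g * d)).trans et
  have e' : W' ≤ s ⁻¹ᵁ V₀ := (R.basicOpen_le (g * d)).trans e
  let c' := c.map (R.presheaf.map (homOfLE (R.basicOpen_le (g * d))).op)
  haveI hlqf : LocallyQuasiFinite
      (Spec.map (CommRingCat.ofHom (Ideal.Quotient.mk (Ideal.ofList c'))) ≫ hW'.fromSpec ≫ s) := by
    haveI : IsLocalization.Away (g * d) Γ(R, W') := hW.isLocalization_basicOpen (g * d)
    letI : Algebra Γ(U, V₀) Γ(R, W') := (s.appLE V₀ W' e').hom.toAlgebra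
    haveI : IsScalarTower Γ(U, V₀) Γ(R, W) Γ(R, W') := IsScalarTower.of_algebraMap_eq fun a =>
      (congr($(s.appLE_map e (homOfLE (R.basicOpen_le (g * d))).op) a)).symm
    have hq : Algebra.QuasiFinite Γ(U, V₀) (Γ(R, W') ⧸ Ideal.ofList c') := by
      have := Groth.FlatMor2.FibCrit.quasiFinite_quotient_away I (g * d) Γ(R, W') hqf
      rw [show I.map (algebraMap Γ(R, W) Γ(R, W')) = Ideal.ofList c' from Ideal.map_ofList _ _] at this
      exact this
    rw [← hV₀.SpecMap_appLE_fromSpec s hW' e', ← Spec.map_comp_assoc]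
    refine MorphismProperty.comp_mem @LocallyQuasiFinite _ _ ?_ inferInstance
    rw [HasRingHomProperty.Spec_iff (P := @LocallyQuasiFinite)]
    exact RingHom.quasiFinite_algebraMap.mpr hq
  haveI : Flat (Spec.map (CommRingCat.ofHom (Ideal.Quotient.mk (Ideal.ofList c'))) ≫ hW'.fromSpec ≫ s) := h2
  -- the slice near `r` is open in the fibre product
  have hc' : Ideal.ofList c' = (Ideal.ofList l).map (t.appLE V W' et').hom := by
    rw [Ideal.map_ofList]
    simp only [c', c, List.map_map]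
    congr 1
    refine List.map_congr_left fun a _ => ?_
    exact (ConcreteCategory.congr_hom (t.appLE_map et (homOfLE (R.basicOpen_le (g * d))).op) a : _)
  let i := Spec.map (CommRingCat.ofHom (Ideal.Quotient.mk (Ideal.ofList l))) ≫ hV.fromSpec
  let b := Spec.map (CommRingCat.ofHom (Ideal.Quotient.mk (Ideal.ofList c')))
  have hpb₀ := (isPullback_SpecMap_of_isPushout _ _ _ _ (isPushout_quotient (t.appLE V W' et')
    (Ideal.ofList l) (Ideal.ofList c') hc'))
  let a := Spec.map (CommRingCat.ofHom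
    (Ideal.quotientMap (Ideal.ofList c') (t.appLE V W' et').hom (hc' ▸ Ideal.le_comap_map)))
  have hpb₁ : IsPullback b a (Spec.map (t.appLE V W' et') ≫ hV.fromSpec) i :=
    ⟨⟨by rw [← Category.assoc, hpb₀.w, Category.assoc]⟩, ⟨PullbackCone.IsLimit.mk _
      (fun k => hpb₀.lift k.fst k.snd (by
        have := k.condition; rwa [← Category.assoc, ← Category.assoc, cancel_mono] at this))
      (fun k => hpb₀.lift_fst _ _ _) (fun k => hpb₀.lift_snd _ _ _)
      (fun k m h₁ h₂ => hpb₀.hom_ext (by rw [h₁, hpb₀.lift_fst]) (by rw [h₂, hpb₀.lift_snd]))⟩⟩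
  rw [hV.SpecMap_appLE_fromSpec t hW' et'] at hpb₁
  let j : Spec (CommRingCat.of (Γ(R, W') ⧸ Ideal.ofList c')) ⟶ pullback i t :=
    pullback.lift a (b ≫ hW'.fromSpec) (by rw [Category.assoc]; exact hpb₁.w.symm)
  have hj : j ≫ pullback.snd i t = b ≫ hW'.fromSpec := pullback.lift_snd _ _ _
  have hpj : IsPullback j b (pullback.snd i t) hW'.fromSpec :=
    IsPullback.of_right (by
      rw [show j ≫ pullback.fst i t = a from pullback.lift_fst _ _ _]
      exact hpb₁.flip) hj (IsPullback.of_hasPullback i t).flip.flip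
  haveI : IsOpenImmersion j := MorphismProperty.of_isPullback hpj.flip inferInstance
  have hmem' : ∀ a ∈ c', R.presheaf.germ W' r hrW' a ∈ IsLocalRing.maximalIdeal (R.presheaf.stalk r) := by
    intro a ha
    obtain ⟨a, ha', rfl⟩ := List.mem_map.mp ha
    rw [R.presheaf.germ_res_apply _ r hrW' a]
    exact hmem a ha'
  obtain ⟨z, hz⟩ := Groth.FlatMor2.FibCrit.mem_range_ofList hW' c' r hrW' hmem'
  refine ⟨l, j z, ?_, ?_, ?_⟩
  · rw [← Scheme.Hom.comp_apply, hj]
    exact hz
  · rw [← flat_stalkMap_comp_iff j, ← Category.assoc, hj, Category.assoc]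
    exact Flat.stalkMap _ _
  · rw [← Scheme.Hom.quasiFiniteAt_comp_iff_of_isOpenImmersion, ← Category.assoc, hj, Category.assoc]
    exact Scheme.Hom.quasiFiniteAt _ _

end Groth.AlgSpFppf
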