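import Groth.Agent.FlatMor2.FibCrit.CMSlice
import Groth.Agent.LocCohBase.CM
import Groth.Agent.AlgSpFppf.FieldMap

/-!
# Slicing a fibre by functions pulled back from another scheme
-/

set_option autoImplicit false
set_option linter.style.haveILetI false
set_option backward.isDefEq.respectTransparency false
set_option backward.isDefEq.respectTransparency.types false
universe u

open TensorProduct RingTheory.Sequence IsLocalRing

namespace Groth.AlgSpFppf

/-- A regular sequence made of images of elements of an ideal whose image cuts out the closed point. -/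
theorem exists_regular_from_ideal {A R : Type u} [CommRing A] [CommRing R] [IsLocalRing R]
    [IsNoetherianRing R] (φ : A →+* R) (p : Ideal A) (hp : ∀ a ∈ p, φ a ∈ maximalIdeal R)
    (hrad : ∀ P : Ideal R, P.IsPrime → (∀ a ∈ p, φ a ∈ P) → P = maximalIdeal R) (d : ℕ) :
    ∀ (M : Type u) [AddCommGroup M] [Module R M] [Module.Finite R M],
      LocCoh.IsCohenMacaulayModule R M → Module.supportDim R M = (d : WithBot ℕ∞) →
      ∃ l : List A, (∀ a ∈ l, a ∈ p) ∧ l.length = d ∧ IsWeaklyRegular M (l.map φ) := by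
  classical
  induction d with
  | zero => intro M _ _ _ _ _; exact ⟨[], by simp, rfl, IsWeaklyRegular.nil R M⟩
  | succ d ih =>
    intro M _ _ _ hM hd
    obtain ⟨a, hap, hreg⟩ : ∃ a ∈ p, IsSMulRegular M (φ a) := by
      by_contra hall
      push Not at hall
      have hfin := associatedPrimes.finite R M
      let s := hfin.toFinset
      have hsub : (p : Set A) ⊆ ⋃ P ∈ (↑s : Set (Ideal R)), (P.comap φ : Set A) := by
        intro a ha
        have hx : φ a ∈ ⋃ P ∈ associatedPrimes R M, (P : Set R) := by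
          rw [biUnion_associatedPrimes_eq_compl_regular R M]
          exact hall a ha
        simp only [Set.mem_iUnion, exists_prop] at hx
        obtain ⟨P, hP, hPa⟩ := hx
        simp only [Set.mem_iUnion, exists_prop]
        exact ⟨P, by simpa [s] using hP, hPa⟩
      have hprime : ∀ P ∈ s, P ≠ (⊥ : Ideal R) → P ≠ ⊥ → (P.comap φ).IsPrime := fun P hP _ _ => by
        have := (show P ∈ associatedPrimes R M by simpa [s] using hP).isPrime
        infer_instance
      obtain ⟨P, hP, hpP⟩ := (Ideal.subset_union_prime (f := fun P : Ideal R => P.comap φ) ⊥ ⊥ hprime).1 hsub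
      have hP' : P ∈ associatedPrimes R M := by simpa [s] using hP
      have hPm := hrad P hP'.isPrime fun a ha => hpP ha
      have h0 := Groth.LocCohBase.ringKrullDim_quotient_eq_of_CM hM hP'
      rw [hPm, hd] at h0
      haveI : (maximalIdeal R).IsMaximal := inferInstance
      letI := Ideal.Quotient.field (maximalIdeal R)
      rw [ringKrullDim_eq_zero_of_field] at h0
      change ((0 : ℕ) : WithBot ℕ∞) = ((d + 1 : ℕ) : WithBot ℕ∞) at h0
      norm_cast at h0
    have hd' : Module.supportDim R (QuotSMulTop (φ a) M) = (d : WithBot ℕ∞) := by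
      have h := Module.supportDim_quotSMulTop_succ_eq_supportDim hreg (hp a hap)
      rw [hd] at h
      generalize Module.supportDim R (QuotSMulTop (φ a) M) = e at h ⊢
      induction e with
      | bot => rw [WithBot.bot_add] at h; exact absurd h.symm WithBot.coe_ne_bot
      | coe e =>
        induction e with
        | top => exact absurd (WithBot.coe_inj.mp h) (by simp only [top_add]; exact (ENat.coe_ne_top (d + 1)).symm)
        | coe e =>
          change ((e + 1 : ℕ) : WithBot ℕ∞) = ((d + 1 : ℕ) : WithBot ℕ∞) at h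
          change (e : WithBot ℕ∞) = (d : WithBot ℕ∞)
          norm_cast at h ⊢
          omega
    obtain ⟨l, hl, hlen, hwr⟩ := ih _ (Groth.LocCohBase.isCM_quotSMulTop hM (hp a hap) hreg) hd'
    exact ⟨a :: l, List.forall_mem_cons.2 ⟨hap, hl⟩, by simp [hlen], IsWeaklyRegular.cons hreg hwr⟩

/-- Elements of an ideal of `A` whose images form a regular sequence cutting the fibre down to `q`. -/
theorem exists_regular_numerators_of_ideal {A C E : Type u} [CommRing A] [CommRing C] [CommRing E]
    [Algebra A C] [Algebra.FiniteType A C] (t : E →+* C) (p : Ideal E) (q : Ideal C) [q.IsPrime]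
    (hpq : ∀ a ∈ p, t a ∈ q)
    (hcut : ∀ q' : Ideal C, q'.IsPrime → q'.under A = q.under A → q' ≤ q → (∀ a ∈ p, t a ∈ q') → q' = q)
    (Cq : Type u) [CommRing Cq] [Algebra C Cq] [IsLocalization.AtPrime Cq q] [Algebra A Cq]
    [IsScalarTower A C Cq]
    (hcm : LocCoh.IsCohenMacaulayLocalRing (Cq ⧸ (q.under A).map (algebraMap A Cq))) :
    ∃ l : List E, (∀ a ∈ l, a ∈ p) ∧
      IsWeaklyRegular (Cq ⧸ (q.under A).map (algebraMap A Cq)) (l.map t) ∧
      ∀ q' : Ideal C, q'.IsPrime → q'.under A = q.under A → q' ≤ q → Ideal.ofList (l.map t) ≤ q' →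
        q' = q := by
  classical
  haveI : IsLocalRing Cq := IsLocalization.AtPrime.isLocalRing Cq q
  set J := (q.under A).map (algebraMap A Cq) with hJ
  haveI := hcm
  let R := Cq ⧸ J
  let φ₀ : C →+* R := (Ideal.Quotient.mk J).comp (algebraMap C Cq)
  have hφ₀m : ∀ c ∈ q, φ₀ c ∈ maximalIdeal R := by
    intro c hc
    rw [← map_maximalIdeal_of_surjective (Ideal.Quotient.mk J) Ideal.Quotient.mk_surjective]
    exact Ideal.mem_map_of_mem _ ((IsLocalization.AtPrime.to_map_mem_maximal_iff Cq q c).mpr hc)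
  have hcomap : ∀ P : Ideal R, P.IsPrime → (P.comap φ₀).under A = q.under A ∧ P.comap φ₀ ≤ q := by
    intro P hP
    have hle : P.comap φ₀ ≤ q := fun c hc => by
      by_contra hcq
      exact hP.ne_top (Ideal.eq_top_of_isUnit_mem _ hc
        ((IsLocalization.map_units Cq (⟨c, hcq⟩ : q.primeCompl)).map (Ideal.Quotient.mk J)))
    refine ⟨le_antisymm (Ideal.comap_mono hle) fun a ha => ?_, hle⟩
    show φ₀ (algebraMap A C a) ∈ P
    have : φ₀ (algebraMap A C a) = 0 := by
      show Ideal.Quotient.mk J (algebraMap C Cq (algebraMap A C a)) = 0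
      rw [← IsScalarTower.algebraMap_apply, Ideal.Quotient.eq_zero_iff_mem]
      exact Ideal.mem_map_of_mem _ ha
    rw [this]; exact zero_mem _
  have hrad : ∀ P : Ideal R, P.IsPrime → (∀ a ∈ p, φ₀ (t a) ∈ P) → P = maximalIdeal R := by
    intro P hP hpP
    have := hP
    obtain ⟨hu, hle⟩ := hcomap P hP
    have he := hcut (P.comap φ₀) inferInstance hu hle hpP
    refine le_antisymm (IsLocalRing.le_maximalIdeal hP.ne_top) fun r hr => ?_
    obtain ⟨y, rfl⟩ := Ideal.Quotient.mk_surjective r
    obtain ⟨⟨c, s⟩, hc⟩ := IsLocalization.surj q.primeCompl y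
    have hcq : c ∈ q := by
      by_contra hcq
      have hu := (IsLocalization.map_units Cq (⟨c, hcq⟩ : q.primeCompl)).map (Ideal.Quotient.mk J)
      change IsUnit (Ideal.Quotient.mk J (algebraMap C Cq c)) at hu
      rw [← hc, map_mul] at hu
      exact (hr : Ideal.Quotient.mk J y ∈ nonunits R) (isUnit_of_mul_isUnit_left hu)
    rw [← he] at hcq
    change Ideal.Quotient.mk J (algebraMap C Cq c) ∈ P at hcq
    rw [← hc, map_mul] at hcq
    exact (hP.mem_or_mem hcq).resolve_right fun h => hP.ne_top (Ideal.eq_top_of_isUnit_mem _ h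
      ((IsLocalization.map_units Cq s).map _))
  obtain ⟨d, hd⟩ := Groth.LocCohBase.exists_depth_eq (R := R) R
  have hdimR : Module.supportDim R R = (d : WithBot ℕ∞) := by
    rw [hcm.supportDim_eq_depth, hd]; rfl
  obtain ⟨l, hl, hlen, hwr⟩ := exists_regular_from_ideal (φ₀.comp t) p (fun a ha => hφ₀m _ (hpq a ha))
    hrad d R hcm.supportDim_eq_depth hdimR
  rw [show ⇑(φ₀.comp t) = φ₀ ∘ t from rfl, ← List.map_map] at hwr
  refine ⟨l, hl, (isWeaklyRegular_map_algebraMap_iff R R (l.map t)).mp hwr, fun q' hq' hu' hle hI => ?_⟩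
  have hdis : Disjoint (q.primeCompl : Set C) (q' : Set C) :=
    Set.disjoint_left.mpr fun c hc hc' => hc (hle hc')
  haveI hP : (q'.map (algebraMap C Cq)).IsPrime :=
    IsLocalization.isPrime_of_isPrime_disjoint q.primeCompl Cq q' hq' hdis
  have hJle : J ≤ q'.map (algebraMap C Cq) := by
    rw [hJ, IsScalarTower.algebraMap_eq A C Cq, ← Ideal.map_map, ← hu']
    exact Ideal.map_mono Ideal.map_comap_le
  let P := (q'.map (algebraMap C Cq)).map (Ideal.Quotient.mk J)
  haveI : P.IsPrime :=
    Ideal.map_isPrime_of_surjective Ideal.Quotient.mk_surjective (by rwa [Ideal.mk_ker])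
  have hlP : ∀ x ∈ (l.map t).map φ₀, x ∈ P := by
    intro x hx
    obtain ⟨c, hc, rfl⟩ := List.mem_map.1 hx
    exact Ideal.mem_map_of_mem _ (Ideal.mem_map_of_mem _ (hI (Ideal.subset_span hc)))
  have hlm : ∀ x ∈ (l.map t).map φ₀, x ∈ maximalIdeal R := fun x hx =>
    IsLocalRing.le_maximalIdeal (Ideal.IsPrime.ne_top inferInstance) (hlP x hx)
  have hne : maximalIdeal R • (⊤ : Submodule R R) ≠ ⊤ :=
    Groth.LocCohBase.smul_maximalIdeal_ne_top R (maximalIdeal.isMaximal R).ne_top
  have hdim := Module.supportDim_add_length_eq_supportDim_of_isRegular (M := R) ((l.map t).map φ₀)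
    (Groth.LocCohBase.isRegular_of_isWeaklyRegular_of_mem hne hwr hlm)
  have h0 : ringKrullDim (R ⧸ Ideal.ofList ((l.map t).map φ₀)) ≤ 0 := by
    rw [← Module.supportDim_quotient_eq_ringKrullDim,
      Module.supportDim_eq_of_equiv (Submodule.quotEquivOfEq (Ideal.ofList ((l.map t).map φ₀))
        (Ideal.ofList ((l.map t).map φ₀) • (⊤ : Submodule R R)) (by rw [smul_eq_mul, Ideal.mul_top]))]
    rw [hdimR, List.length_map, List.length_map, hlen] at hdim
    generalize Module.supportDim R (R ⧸ (Ideal.ofList ((l.map t).map φ₀) • (⊤ : Submodule R R))) = e at hdim ⊢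
    induction e with
    | bot => exact bot_le
    | coe e =>
      induction e with
      | top => exact absurd (WithBot.coe_inj.mp hdim) (by simp)
      | coe e =>
        change ((e + d : ℕ) : WithBot ℕ∞) = (d : WithBot ℕ∞) at hdim
        change (e : WithBot ℕ∞) ≤ ((0 : ℕ) : WithBot ℕ∞)
        norm_cast at hdim ⊢
        omega
  haveI : Ring.KrullDimLE 0 (R ⧸ Ideal.ofList ((l.map t).map φ₀)) := Ring.krullDimLE_iff.mpr h0
  have hPle : Ideal.ofList ((l.map t).map φ₀) ≤ P := Ideal.span_le.2 hlP
  haveI : (P.map (Ideal.Quotient.mk (Ideal.ofList ((l.map t).map φ₀)))).IsPrime :=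
    Ideal.map_isPrime_of_surjective Ideal.Quotient.mk_surjective (by rwa [Ideal.mk_ker])
  have hPmax : P = maximalIdeal R := by
    refine IsLocalRing.eq_maximalIdeal ?_
    have hm := Ideal.IsPrime.isMaximal' (I := P.map (Ideal.Quotient.mk (Ideal.ofList ((l.map t).map φ₀)))) inferInstance
    have := Ideal.comap_isMaximal_of_surjective (Ideal.Quotient.mk (Ideal.ofList ((l.map t).map φ₀)))
      Ideal.Quotient.mk_surjective (K := _) (H := hm)
    rwa [Ideal.comap_map_of_surjective _ Ideal.Quotient.mk_surjective, ← RingHom.ker_eq_comap_bot,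
      Ideal.mk_ker, sup_eq_left.mpr hPle] at this
  refine hcut q' hq' hu' hle fun a ha => ?_
  have h1 := hφ₀m _ (hpq a ha)
  rw [← hPmax, ← Ideal.mem_comap (f := φ₀), ← Ideal.comap_comap,
    Ideal.comap_map_of_surjective _ Ideal.Quotient.mk_surjective, ← RingHom.ker_eq_comap_bot,
    Ideal.mk_ker, sup_eq_left.mpr hJle] at h1
  exact (IsLocalization.under_map_of_isPrime_disjoint q.primeCompl Cq hq' hdis).le h1

/-- If points of the fibre with values in fields are determined by their images under `t`, the only prime of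
the fibre below `q` over a maximal ideal of `E` is `q`. -/
theorem eq_of_forall_field_points {A C E : Type u} [CommRing A] [CommRing C] [CommRing E]
    [Algebra A C] [Algebra.FiniteType A C] (t : E →+* C)
    (hmono : ∀ (K : Type u) [Field K] (h₁ h₂ : C →+* K),
      h₁.comp (algebraMap A C) = h₂.comp (algebraMap A C) → h₁.comp t = h₂.comp t → h₁ = h₂)
    (p : Ideal E) [p.IsMaximal] (q q' : Ideal C) [q.IsPrime] [q'.IsPrime] (hu : q'.under A = q.under A)
    (hle : q' ≤ q) (hp : ∀ a ∈ p, t a ∈ q') : q' = q := by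
  by_contra hne
  let p₀ : PrimeSpectrum A := (⟨q, inferInstance⟩ : PrimeSpectrum C).comap (algebraMap A C)
  let e := PrimeSpectrum.preimageOrderIsoFiber A C p₀
  let x : PrimeSpectrum.comap (algebraMap A C) ⁻¹' {p₀} := ⟨⟨q', inferInstance⟩, PrimeSpectrum.ext hu⟩
  let y : PrimeSpectrum.comap (algebraMap A C) ⁻¹' {p₀} := ⟨⟨q, inferInstance⟩, rfl⟩
  have hlt : e x < e y := e.strictMono (show x.1.asIdeal < y.1.asIdeal from lt_of_le_of_ne hle hne)
  let P := (e x).asIdeal
  let ι : C →+* p₀.asIdeal.Fiber C := Algebra.TensorProduct.includeRight.toRingHom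
  have hx : P.comap ι = q' := by
    have h := e.symm_apply_apply x
    have h2 := congrArg (fun z : PrimeSpectrum.comap (algebraMap A C) ⁻¹' {p₀} => z.1.asIdeal) h
    exact h2
  have hD : ¬ IsField (p₀.asIdeal.Fiber C ⧸ P) := fun hf =>
    (show P < (e y).asIdeal from hlt).ne ((Ideal.Quotient.maximal_of_isField P hf).eq_of_le
      (e y).isPrime.ne_top (le_of_lt (show P < (e y).asIdeal from hlt)))
  letI := Ideal.Quotient.field p
  let φ : E ⧸ p →+* p₀.asIdeal.Fiber C ⧸ P :=
    Ideal.Quotient.lift p (((Ideal.Quotient.mk P).comp ι).comp t) fun a ha =>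
      Ideal.Quotient.eq_zero_iff_mem.2 (show ι (t a) ∈ P from hx.symm.le (hp a ha))
  obtain ⟨g₁, g₂, hg, hge⟩ := exists_ne_algHom (k := p₀.asIdeal.ResidueField) (D := p₀.asIdeal.Fiber C ⧸ P) hD (k' := E ⧸ p) φ
  let f₁ := g₁.comp (Ideal.Quotient.mkₐ _ P)
  let f₂ := g₂.comp (Ideal.Quotient.mkₐ _ P)
  have heq : f₁.toRingHom.comp ι = f₂.toRingHom.comp ι := by
    refine hmono _ _ _ (RingHom.ext fun a => ?_) (RingHom.ext fun a => hge (Ideal.Quotient.mk p a))
    show f₁ (ι (algebraMap A C a)) = f₂ (ι (algebraMap A C a))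
    rw [show ι (algebraMap A C a) = algebraMap p₀.asIdeal.ResidueField (p₀.asIdeal.Fiber C)
        (algebraMap A p₀.asIdeal.ResidueField a) from by
      rw [← IsScalarTower.algebraMap_apply]
      exact Algebra.TensorProduct.includeRight.commutes a, AlgHom.commutes, AlgHom.commutes]
  apply hg
  refine AlgHom.ext fun z => ?_
  obtain ⟨z, rfl⟩ := Ideal.Quotient.mk_surjective z
  induction z using TensorProduct.induction_on with
  | zero => rw [map_zero, map_zero, map_zero]
  | add a b ha hb => rw [map_add, map_add, map_add, ha, hb]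
  | tmul c x =>
    show f₁ (c ⊗ₜ x) = f₂ (c ⊗ₜ x)
    rw [show c ⊗ₜ[A] x = algebraMap p₀.asIdeal.ResidueField (p₀.asIdeal.Fiber C) c * ι x from by
      simp [ι, Algebra.TensorProduct.algebraMap_apply, Algebra.TensorProduct.tmul_mul_tmul],
      map_mul, map_mul, AlgHom.commutes, AlgHom.commutes]
    exact congrArg (_ * ·) (RingHom.congr_fun heq x)

end Groth.AlgSpFppf
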