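import Groth.Agent.FppfBoot.Bootstrap
import Groth.Agent.AlgSpFppf.SheafQuot
import Groth.Prelude.Def_AlgSpCov

/-!
# fppf descent of algebraic spaces
-/

set_option autoImplicit false
set_option backward.isDefEq.respectTransparency false
set_option backward.isDefEq.respectTransparency.types false
universe u

open CategoryTheory CategoryTheory.Limits AlgebraicGeometry Opposite AlgSp

noncomputable section

namespace Groth.AlgSpFppf

open Groth.AlgSpBasic

variable {S : Scheme.{u}}

/-- A representable fppf cover is one which is representable by algebraic spaces. -/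
theorem repBySpWith_fppf_of_repWith {U F : Sp S} {p : U ⟶ F} (hs : RepWith @Surjective p)
    (hf : RepWith @Flat p) (hp : RepWith @LocallyOfFinitePresentation p) :
    RepBySpWith (FppfMor S) p.hom :=
  (repBySpWith_hom_iff _ p).2 fun U ξ F' fst snd sq => by
    obtain ⟨V, snd', fst', sq'⟩ := hs.rep ξ
    exact ⟨(IsAlgSpace.yon_obj V).of_iso (sq'.isoIsPullback _ _ sq),
      ⟨surjective_map_of_repWith (repWith_of_isPullback sq hs),
        locP_of_repWith (repWith_of_isPullback sq hf)⟩, locP_of_repWith (repWith_of_isPullback sq hp)⟩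

/-- A sheaf covered by schemes mapping by flat, locally finitely presented representable maps is an
algebraic space. -/
theorem isAlgSpace_of_family {F : Sp S} {ι : Type u} (W : ι → Over S)
    (a : ∀ i, (yon S).obj (W i) ⟶ F)
    (ha : ∀ i, RepWith (@Flat ⊓ @LocallyOfFinitePresentation) (a i))
    (hsurj : ∀ z : Points F, ∃ (i : ι) (w : ↥(W i).left), Points.ofPt (a i) w = z) :
    IsAlgSpace F := by
  obtain ⟨π, hπ, -⟩ := Groth.AlgSp2.exists_glue W a
  have hf : RepWith @Flat π := Groth.HenselPoint.repWith_sigma π fun i =>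
    (hπ i).symm ▸ repWith_mono inf_le_left (ha i)
  have hp : RepWith @LocallyOfFinitePresentation π := Groth.HenselPoint.repWith_sigma π fun i =>
    (hπ i).symm ▸ repWith_mono inf_le_right (ha i)
  have hs : RepWith @Surjective π := repWith_surjective_of_ofPt hf.rep fun z => by
    obtain ⟨i, w, rfl⟩ := hsurj z
    refine ⟨(Groth.AlgSp2.sigmaIncl W i).left w, ?_⟩
    rw [← ofPt_comp_yon, hπ i]
  exact Groth.FppfBoot.isAlgSpace_of_fppf_cover (X := ⟨_, IsAlgSpace.yon_obj _⟩) (p := π)
    (repBySpWith_fppf_of_repWith hs hf hp)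

/-- A sheaf over a scheme which becomes an algebraic space after an fppf base change is an algebraic
space. -/
theorem isAlgSpace_of_baseChange {T : Over S} {P : Sp S} (h : P ⟶ (yon S).obj T) {ι : Type u}
    (Ti : ι → Over S) (e : ∀ i, Ti i ⟶ T) (hfl : ∀ i, Flat (e i).left)
    (hfp : ∀ i, LocallyOfFinitePresentation (e i).left)
    (hcov : ∀ t : ↥T.left, ∃ (i : ι) (x : ↥(Ti i).left), (e i).left x = t)
    (hloc : ∀ i, IsAlgSpace (pullback h ((yon S).map (e i)))) : IsAlgSpace P := by
  choose W q hq hqs using fun i => (hloc i).atlas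
  have hfst : ∀ i, RepWith (@Flat ⊓ @LocallyOfFinitePresentation)
      (pullback.fst h ((yon S).map (e i))) := fun i =>
    repWith_of_isPullback (IsPullback.of_hasPullback _ _).flip
      ((repWith_yon_map_iff _ _).2 ⟨hfl i, hfp i⟩)
  refine isAlgSpace_of_family W (fun i => q i ≫ pullback.fst h ((yon S).map (e i))) (fun i =>
    repWith_comp (repWith_mono (fun _ _ f (hf : Etale f) => ⟨inferInstance, inferInstance⟩) (hq i))
      (hfst i)) fun z => ?_
  obtain ⟨t, ht⟩ := (Points.schemeHomeo T).surjective (Points.map h z)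
  obtain ⟨i, x, rfl⟩ := hcov t
  obtain ⟨y, hy, -⟩ := exists_point_of_isPullback (IsPullback.of_hasPullback h ((yon S).map (e i))) z
    (Points.schemeHomeo _ x) (by rw [← ht]; exact (Points.map_yon_map_apply _ x).symm)
  obtain ⟨w, hw⟩ := surjective_map_of_repWith (hqs i) y
  obtain ⟨v, rfl⟩ := (Points.schemeHomeo (W i)).surjective w
  refine ⟨i, v, ?_⟩
  rw [ofPt_eq_map, Points.map_comp, ← hy]
  exact congrArg _ hw

/-- Properties fppf local on the target descend from a base change. -/
theorem locP_of_baseChange (Q : MorphismProperty Scheme.{u}) [EtaleLocal Q] {T : Over S} {P : Sp S}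
    (hP : IsAlgSpace P) (h : P ⟶ (yon S).obj T) {ι : Type u}
    (Ti : ι → Over S) (e : ∀ i, Ti i ⟶ T) (hfl : ∀ i, Flat (e i).left)
    (hfp : ∀ i, LocallyOfFinitePresentation (e i).left)
    (hcov : ∀ t : ↥T.left, ∃ (i : ι) (x : ↥(Ti i).left), (e i).left x = t)
    (hloc : ∀ i, LocP Q (pullback.snd h ((yon S).map (e i)))) : LocP Q h := by
  obtain ⟨W, w, hw, hws⟩ := hP.atlas
  obtain ⟨φ, hφ⟩ := (yon S).map_surjective (w ≫ h)
  refine locP_of_chart (h := φ) hP.diag (IsAlgSpace.yon_obj T).diag hw hws (repWith_id _ T)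
    (by rw [Category.comp_id, hφ]) ?_
  have : Q.IsLocalAtTarget Scheme.fppfPrecoverage := (inferInstance : EtaleLocal Q).localAtTarget
  have hC : Presieve.ofArrows (fun i => (Ti i).left) (fun i => (e i).left) ∈
      Scheme.fppfPrecoverage T.left := by
    rw [Scheme.fppfPrecoverage, Scheme.ofArrows_mem_precoverage_iff]
    exact ⟨hcov, fun i => ⟨hfl i, hfp i⟩⟩
  refine MorphismProperty.IsLocalAtTarget.of_forall_pullbackSnd (P := Q) hC ?_
  rintro A g _ ⟨i⟩
  obtain ⟨V, v₁, v₂, sq⟩ := exists_pullback_yon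
    ((repWith_yon_map_iff (⊤ : MorphismProperty Scheme.{u}) φ).2 trivial).rep ((yon S).map (e i))
  have sqP := IsPullback.of_hasPullback h ((yon S).map (e i))
  let l := sqP.lift ((yon S).map v₁ ≫ w) ((yon S).map v₂)
    (by rw [Category.assoc, ← hφ]; exact sq.w)
  have hl : IsPullback ((yon S).map v₁) l w (pullback.fst h ((yon S).map (e i))) := by
    refine IsPullback.of_bot ?_ (sqP.lift_fst _ _ _).symm sqP
    rw [sqP.lift_snd, ← hφ]
    exact sq
  have h₁ : Q v₂.left := hloc i l (𝟙 _) v₂ (repWith_of_isPullback hl hw) (repWith_id _ _)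
    (by rw [Category.comp_id, sqP.lift_snd])
  have h4 := isPullback_left (isPullback_of_yon sq)
  rw [show pullback.snd φ.left (e i).left = h4.isoPullback.inv ≫ v₂.left from
    h4.isoPullback_inv_snd.symm]
  exact (Q.cancel_left_of_respectsIso h4.isoPullback.inv v₂.left).2 h₁

/-- Surjectivity descends from a base change. -/
theorem isSurjectiveMor_of_baseChange {T : Over S} {P : Sp S} (h : P ⟶ (yon S).obj T) {ι : Type u}
    (Ti : ι → Over S) (e : ∀ i, Ti i ⟶ T)
    (hcov : ∀ t : ↥T.left, ∃ (i : ι) (x : ↥(Ti i).left), (e i).left x = t)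
    (hloc : ∀ i, IsSurjectiveMor (pullback.snd h ((yon S).map (e i)))) : IsSurjectiveMor h := by
  intro z
  obtain ⟨t, rfl⟩ := (Points.schemeHomeo T).surjective z
  obtain ⟨i, x, rfl⟩ := hcov t
  obtain ⟨y, hy⟩ := hloc i (Points.schemeHomeo _ x)
  refine ⟨Points.map (pullback.fst _ _) y, ?_⟩
  rw [← Points.map_comp, pullback.condition, Points.map_comp, hy]
  exact Points.map_yon_map_apply _ x

/-- Representable-by-spaces fppf covers are local on the target. -/
theorem repBySpWith_of_local {U F : Sp S} (π : U ⟶ F) [Sheaf.IsLocallySurjective π]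
    (hloc : ∀ ⦃T : Over S⦄ (a : (yon S).obj T ⟶ U) ⦃P : Sp S⦄ (fst : P ⟶ U)
      (snd : P ⟶ (yon S).obj T), IsPullback fst snd π (a ≫ π) → IsAlgSpace P ∧ FppfMor S snd) :
    RepBySpWith (FppfMor S) π.hom := by
  refine (repBySpWith_hom_iff _ π).2 fun T g P fst snd sq => ?_
  obtain ⟨C, hC, hl⟩ := exists_local_lift π g
  obtain ⟨ι', Tn, i, rfl⟩ := C.exists_eq_ofArrows
  rw [Scheme.fppfPrecoverage, Scheme.ofArrows_mem_precoverage_iff] at hC
  obtain ⟨hν, hprop⟩ := hC
  choose ν xν hνx using hν
  -- reindex by points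
  let Ti : ↥T.left → Over S := fun x => Over.mk (i (ν x) ≫ T.hom)
  let e : ∀ x, Ti x ⟶ T := fun x => Over.homMk (i (ν x))
  have hcov : ∀ t : ↥T.left, ∃ (x : ↥T.left) (z : ↥(Ti x).left), (e x).left z = t :=
    fun t => ⟨t, xν t, hνx t⟩
  have key : ∀ x, IsAlgSpace (pullback snd ((yon S).map (e x))) ∧
      FppfMor S (pullback.snd snd ((yon S).map (e x))) := fun x => by
    obtain ⟨l, hl⟩ := hl (i (ν x)) (Presieve.ofArrows.mk _)
    refine hloc l (pullback.fst snd ((yon S).map (e x)) ≫ fst) _ ?_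
    rw [hl]
    exact (IsPullback.of_hasPullback snd ((yon S).map (e x))).paste_horiz sq
  have hP : IsAlgSpace P := isAlgSpace_of_baseChange snd Ti e (fun x => (hprop _).1)
    (fun x => (hprop _).2) hcov fun x => (key x).1
  exact ⟨hP, ⟨isSurjectiveMor_of_baseChange snd Ti e hcov fun x => (key x).2.1.1,
    locP_of_baseChange @Flat hP snd Ti e (fun x => (hprop _).1) (fun x => (hprop _).2) hcov
      fun x => (key x).2.1.2⟩,
    locP_of_baseChange @LocallyOfFinitePresentation hP snd Ti e (fun x => (hprop _).1)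
      (fun x => (hprop _).2) hcov fun x => (key x).2.2⟩

end Groth.AlgSpFppf
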