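import Groth.Agent.AlgSpFppf.SpaceDescent
import Groth.Agent.QuotStk.SpQuotStack
import Groth.Agent.StkBase.Basic
import Groth.Agent.StkBase.Stack
import Groth.Prelude.Def_AlgSt3

/-!
# Sheaf torsors under group algebraic spaces are algebraic spaces
-/

set_option autoImplicit false
set_option backward.isDefEq.respectTransparency false
set_option backward.isDefEq.respectTransparency.types false
universe u

open CategoryTheory CategoryTheory.Limits AlgebraicGeometry Opposite AlgSp MonoidalCategory
open CategoryTheory.CartesianMonoidalCategory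

noncomputable section

namespace Groth.AlgSpFppf

variable {S : Scheme.{u}} {B : Sp S} {G : Over B} [GrpObj G] {X : Over B} {aX : GAction G X}

/-- The square of a torsor, read in sheaves. -/
theorem isPullback_torsor (A : AlgSt.SpQuotObj Scheme.fppfPrecoverage G aX) :
    IsPullback A.act.act.left (snd G A.P).left A.π.left A.π.left :=
  A.cart.map (Over.forget B)

/-- Over a local section, a torsor is the group. -/
theorem isPullback_torsor_section (A : AlgSt.SpQuotObj Scheme.fppfPrecoverage G aX) {T : Over S}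
    (σ : (yon S).obj T ⟶ A.P.left) :
    IsPullback (pullback.fst (snd G A.P).left σ ≫ A.act.act.left) (pullback.snd (snd G A.P).left σ)
      A.π.left (σ ≫ A.π.left) :=
  (IsPullback.of_hasPullback _ σ).paste_horiz (isPullback_torsor A)

theorem isAlgSpace_torsor (hB : IsAlgSpace B) (hG : IsAlgSpace G.left)
    (A : AlgSt.SpQuotObj Scheme.fppfPrecoverage G aX) : IsAlgSpace A.P.left := by
  obtain ⟨C, hC, hl⟩ := A.loc
  obtain ⟨ι, Tn, i, rfl⟩ := C.exists_eq_ofArrows
  change Presieve.ofArrows Tn i ∈ Scheme.precoverage (@Flat ⊓ @LocallyOfFinitePresentation) A.base.left at hC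
  rw [Scheme.ofArrows_mem_precoverage_iff] at hC
  obtain ⟨hν, hprop⟩ := hC
  choose ν xν hνx using hν
  refine isAlgSpace_of_baseChange A.π.left
    (fun x : ↥A.base.left => Over.mk (i (ν x) ≫ A.base.hom)) (fun x => Over.homMk (i (ν x)))
    (fun x => (hprop _).1) (fun x => (hprop _).2) (fun t => ⟨t, xν t, hνx t⟩) fun x => ?_
  obtain ⟨σ, hσ⟩ := hl (i (ν x)) (Presieve.ofArrows.mk _)
  have h := isPullback_torsor_section A σ
  have hQ : IsAlgSpace (pullback (snd G A.P).left σ) :=
    Groth.AlgSpBasic.isAlgSpace_of_isPullback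
      ((IsPullback.of_hasPullback (snd G A.P).left σ).flip.paste_vert
        (IsPullback.of_hasPullback G.hom A.P.hom).flip).flip
      hB.diag hG (IsAlgSpace.yon_obj _)
  have h' : IsPullback (pullback.fst A.π.left (σ ≫ A.π.left)) (pullback.snd A.π.left (σ ≫ A.π.left))
      A.π.left (σ ≫ A.π.left) := IsPullback.of_hasPullback _ _
  rw [← hσ]
  exact hQ.of_iso (h.isoIsPullback _ _ h')

/-- The torsors which are algebraic spaces are all torsors. -/
theorem isEquivOver_subIncl_isAlgSpace (hB : IsAlgSpace B) (hG : IsAlgSpace G.left) :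
    FibCat.IsEquivOver (AlgSt.subIncl (AlgSt.SpQuotSt Scheme.fppfPrecoverage G aX)
      (fun A => AlgSp.IsAlgSpace A.P.left)) :=
  Groth.StkBase.isEquivOver_of_fullyFaithful _ (inferInstanceAs (ObjectProperty.ι _).Full)
    (inferInstanceAs (ObjectProperty.ι _).Faithful) fun y =>
      ⟨⟨y, isAlgSpace_torsor hB hG y⟩, Iso.refl _, ⟨rfl, by
        show _ = eqToHom rfl
        simp⟩⟩

/-- The structure map of a torsor has every property of the group that is fppf local on the base. -/
theorem locP_torsorπ (Q : MorphismProperty Scheme.{u}) [Groth.AlgSpBasic.EtaleLocal Q]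
    (hB : IsAlgSpace B) (hG : IsAlgSpace G.left) (hQ : LocP Q G.hom)
    (A : AlgSt.SpQuotObj Scheme.fppfPrecoverage G aX) : LocP Q A.π.left := by
  obtain ⟨C, hC, hl⟩ := A.loc
  obtain ⟨ι, Tn, i, rfl⟩ := C.exists_eq_ofArrows
  change Presieve.ofArrows Tn i ∈ Scheme.precoverage (@Flat ⊓ @LocallyOfFinitePresentation) A.base.left at hC
  rw [Scheme.ofArrows_mem_precoverage_iff] at hC
  obtain ⟨hν, hprop⟩ := hC
  choose ν xν hνx using hν
  refine locP_of_baseChange Q (isAlgSpace_torsor hB hG A) A.π.left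
    (fun x : ↥A.base.left => Over.mk (i (ν x) ≫ A.base.hom)) (fun x => Over.homMk (i (ν x)))
    (fun x => (hprop _).1) (fun x => (hprop _).2) (fun t => ⟨t, xν t, hνx t⟩) fun x => ?_
  obtain ⟨σ, hσ⟩ := hl (i (ν x)) (Presieve.ofArrows.mk _)
  rw [← hσ]
  have h := isPullback_torsor_section A σ
  have sq := (IsPullback.of_hasPullback A.π.left (σ ≫ A.π.left))
  have e := h.isoIsPullback_inv_snd _ _ sq
  have sqG : IsPullback (pullback.fst (snd G A.P).left σ ≫ pullback.fst G.hom A.P.hom)
      (pullback.snd (snd G A.P).left σ) G.hom (σ ≫ A.P.hom) :=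
    (IsPullback.of_hasPullback (snd G A.P).left σ).paste_horiz (IsPullback.of_hasPullback G.hom A.P.hom)
  have sqG' := sqG.of_iso (h.isoIsPullback _ _ sq) (Iso.refl _) (Iso.refl _) (Iso.refl _)
    (fst' := (h.isoIsPullback _ _ sq).inv ≫ pullback.fst (snd G A.P).left σ ≫ pullback.fst G.hom A.P.hom)
    (snd' := pullback.snd A.π.left (σ ≫ A.π.left)) (f' := G.hom) (g' := σ ≫ A.P.hom)
    (by simp) ((Category.comp_id _).trans (h.isoIsPullback_hom_snd _ _ sq).symm) (by simp) (by simp)
  exact Groth.AlgSpBasic.locP_of_isPullback hG hB (IsAlgSpace.yon_obj _) sqG' hQ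

/-- The structure map of a torsor is surjective. -/
theorem isSurjectiveMor_torsorπ (A : AlgSt.SpQuotObj Scheme.fppfPrecoverage G aX) :
    IsSurjectiveMor A.π.left := by
  obtain ⟨C, hC, hl⟩ := A.loc
  obtain ⟨ι, Tn, i, rfl⟩ := C.exists_eq_ofArrows
  change Presieve.ofArrows Tn i ∈ Scheme.precoverage (@Flat ⊓ @LocallyOfFinitePresentation) A.base.left at hC
  rw [Scheme.ofArrows_mem_precoverage_iff] at hC
  intro z
  obtain ⟨t, rfl⟩ := (Points.schemeHomeo A.base).surjective z
  obtain ⟨j, x, rfl⟩ := hC.1 t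
  obtain ⟨σ, hσ⟩ := hl (i j) (Presieve.ofArrows.mk _)
  let T' : Over S := Over.mk (i j ≫ A.base.hom)
  let e : T' ⟶ A.base := Over.homMk (i j)
  let σ' : (yon S).obj T' ⟶ A.P.left := σ
  refine ⟨Points.map σ' (Points.schemeHomeo T' x), ?_⟩
  refine (Points.map_comp σ' A.π.left _).symm.trans ?_
  refine (congrArg (fun k => Points.map k (Points.schemeHomeo T' x)) (hσ : σ' ≫ A.π.left = (yon S).map e)).trans ?_
  exact Points.map_yon_map_apply e x

end Groth.AlgSpFppf
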